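import Cfsg.Agent.Class.Asch.UCases
import Cfsg.Agent.Comp.Digits
import Cfsg.Agent.Comp.Basic

/-! Kernel-friendly arithmetic in the quadratic extensions of prime fields. -/

set_option autoImplicit false
set_option linter.unusedSectionVars false

namespace Cfsg.Agent.Class.Asch.FQ

open Cfsg.Geo Cfsg.Agent.Class.U Cfsg.Agent.Comp Cfsg.Agent.Comp.Dig
open scoped MatrixGroups Matrix

/-- Parameters: the field is `F_p[w]`, `w² = a + b w`. -/
structure Par where
  p : ℕ
  a : ℕ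
  b : ℕ

namespace Par

variable (P : Par)

/-- the number of elements -/
def N : ℕ := Nat.mul P.p P.p

/-- the code of `u + v w` -/
def cd (u v : ℕ) : ℕ := Nat.add (Nat.mod u P.p) (Nat.mul P.p (Nat.mod v P.p))

/-- addition of codes -/
noncomputable def add (x y : ℕ) : ℕ := force x fun x => force y fun y =>
  P.cd (Nat.add x y) (Nat.add (Nat.div x P.p) (Nat.div y P.p))

/-- multiplication of codes -/
noncomputable def mul (x y : ℕ) : ℕ := force x fun x => force y fun y =>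
  P.cd (Nat.add (Nat.mul x y) (Nat.mul P.a (Nat.mul (Nat.div x P.p) (Nat.div y P.p))))
    (Nat.add (Nat.add (Nat.mul x (Nat.div y P.p)) (Nat.mul (Nat.div x P.p) y))
      (Nat.mul P.b (Nat.mul (Nat.div x P.p) (Nat.div y P.p))))

/-- conjugation of codes -/
noncomputable def cj (x : ℕ) : ℕ := force x fun x =>
  P.cd (Nat.add x (Nat.mul P.b (Nat.div x P.p))) (Nat.mul (Nat.pred P.p) (Nat.div x P.p))

/-- digit `i` in base `N` -/
def dg (c i : ℕ) : ℕ := Nat.mod (Nat.div c (Nat.pow P.N i)) P.N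

/-- packing digits -/
noncomputable def pack (n : ℕ) (f : ℕ → ℕ) : ℕ := sumR n fun i => Nat.mul (Nat.pow P.N i) (f i)

/-- a sum of codes -/
noncomputable def sumc (n : ℕ) (f : ℕ → ℕ) : ℕ :=
  Nat.rec (motive := fun _ => ℕ) 0 (fun i acc => P.add acc (f i)) n

/-- a product of codes -/
noncomputable def prodc (n : ℕ) (f : ℕ → ℕ) : ℕ :=
  Nat.rec (motive := fun _ => ℕ) 1 (fun i acc => P.mul acc (f i)) n

/-- a matrix acting on a vector -/
noncomputable def act (n m c : ℕ) : ℕ :=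
  P.pack n fun i => P.sumc n fun k => P.mul (P.dg m (Nat.add (Nat.mul n i) k)) (P.dg c k)

/-- product of matrices -/
noncomputable def mmul (n m m' : ℕ) : ℕ :=
  P.pack (Nat.mul n n) fun t => P.sumc n fun k =>
    P.mul (P.dg m (Nat.add (Nat.mul n (Nat.div t n)) k)) (P.dg m' (Nat.add (Nat.mul n k) (Nat.mod t n)))

/-- the identity matrix -/
noncomputable def mone (n : ℕ) : ℕ :=
  P.pack (Nat.mul n n) fun t => cond (Nat.beq (Nat.div t n) (Nat.mod t n)) 1 0

/-- powers of matrices -/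
noncomputable def mpow (n m k : ℕ) : ℕ :=
  Nat.rec (motive := fun _ => ℕ) (P.mone n) (fun _ acc => force acc fun x => P.mmul n x m) k

/-- conjugate transpose -/
noncomputable def madj (n m : ℕ) : ℕ :=
  P.pack (Nat.mul n n) fun t => P.cj (P.dg m (Nat.add (Nat.mul n (Nat.mod t n)) (Nat.div t n)))

/-- the hermitian form -/
noncomputable def hc (n c c' : ℕ) : ℕ := P.sumc n fun i => P.mul (P.dg c i) (P.cj (P.dg c' i))

/-- bit test -/
def tb (L c : ℕ) : Bool := Nat.beq (Nat.mod (Nat.shiftRight L c) 2) 1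

/-- the matrix preserves the set of vectors -/
noncomputable def chk (n L m : ℕ) : Bool :=
  allBB (Nat.pow P.N n) fun c => ite' (tb L c) (tb L (P.act n m c)) true

/-- the matrix is unitary -/
noncomputable def chkU (n m : ℕ) : Bool := Nat.beq (P.mmul n (P.madj n m) m) (P.mone n)

/-- determinant of a `3 × 3` matrix -/
noncomputable def det3 (m : ℕ) : ℕ :=
  P.add (P.add (P.add (P.mul (P.mul (P.dg m 0) (P.dg m 4)) (P.dg m 8))
    (P.mul (P.mul (P.dg m 1) (P.dg m 5)) (P.dg m 6))) (P.mul (P.mul (P.dg m 2) (P.dg m 3)) (P.dg m 7)))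
    (P.mul (Nat.pred P.p) (P.add (P.add (P.mul (P.mul (P.dg m 0) (P.dg m 5)) (P.dg m 7))
    (P.mul (P.mul (P.dg m 1) (P.dg m 3)) (P.dg m 8))) (P.mul (P.mul (P.dg m 2) (P.dg m 4)) (P.dg m 6))))

/-- invariants of the monomial group -/
noncomputable def kc (n κ c : ℕ) : ℕ :=
  Nat.add (P.hc n c c) (Nat.mul P.N (Nat.add
    (P.prodc n fun i => P.add 1 (P.mul κ (P.mul (P.dg c i) (P.cj (P.dg c i)))))
    (Nat.mul P.N (P.mul (P.prodc n (P.dg c)) (P.prodc n (P.dg c))))))

/-- the mask `L` is described by the invariants `key` -/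
noncomputable def chkKey (n L R : ℕ) (key : ℕ → ℕ) : Bool :=
  allBB (Nat.pow P.N n) fun c => ite' (tb R (key c)) (tb L c) (ite' (tb L c) false true)

/-- the mask `L` separates two vectors of the same length -/
noncomputable def chkSep (n L v w : ℕ) : Bool :=
  Nat.blt 0 v && Nat.blt 0 w && Nat.blt v (Nat.pow P.N n) && Nat.blt w (Nat.pow P.N n) &&
    tb L v && !tb L w && Nat.beq (P.hc n v v) (P.hc n w w)

variable {P} [hp : Fact P.p.Prime]

theorem N_pos : 0 < P.N := Nat.mul_pos hp.out.pos hp.out.pos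

theorem cd_lt (u v : ℕ) : P.cd u v < P.N := by
  have h1 := Nat.mod_lt u hp.out.pos
  have h2 := Nat.mod_lt v hp.out.pos
  change u % P.p + P.p * (v % P.p) < P.p * P.p
  nlinarith

theorem add_lt (x y : ℕ) : P.add x y < P.N := by simp only [add, force_eq, cd_lt]
theorem mul_lt (x y : ℕ) : P.mul x y < P.N := by simp only [mul, force_eq, cd_lt]
theorem cj_lt (x : ℕ) : P.cj x < P.N := by simp only [cj, force_eq, cd_lt]
theorem dg_lt (c i : ℕ) : P.dg c i < P.N := Nat.mod_lt _ N_pos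

theorem one_lt_N : 1 < P.N := by
  have := hp.out.two_le
  change 1 < P.p * P.p
  nlinarith

theorem sumc_lt (n : ℕ) (f : ℕ → ℕ) : P.sumc n f < P.N := by
  cases n
  exacts [N_pos, add_lt _ _]

theorem prodc_lt (n : ℕ) (f : ℕ → ℕ) : P.prodc n f < P.N := by
  cases n
  exacts [one_lt_N, mul_lt _ _]

theorem pack_succ (n : ℕ) (f : ℕ → ℕ) : P.pack (n + 1) f = P.pack n f + P.N ^ n * f n := rfl

theorem pack_lt {n : ℕ} {f : ℕ → ℕ} (hf : ∀ i < n, f i < P.N) : P.pack n f < P.N ^ n := by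
  induction n with
  | zero => exact Nat.one_pos
  | succ n ih =>
    have h1 := ih fun i hi => hf i (by omega)
    have h2 := Nat.mul_le_mul_left (P.N ^ n) (hf n (by omega))
    rw [pack_succ, pow_succ]
    rw [Nat.succ_eq_add_one, mul_add] at h2
    omega

theorem dg_pack {n : ℕ} {f : ℕ → ℕ} (hf : ∀ i < n, f i < P.N) {i : ℕ} (hi : i < n) :
    P.dg (P.pack n f) i = f i := by
  induction n with
  | zero => omega
  | succ n ih =>
    have h0 : ∀ i < n, f i < P.N := fun i hi => hf i (by omega)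
    change (P.pack n f + P.N ^ n * f n) / P.N ^ i % P.N = f i
    rcases (Nat.lt_succ_iff.1 hi).eq_or_lt with rfl | h
    · rw [Nat.add_mul_div_left _ _ (pow_pos N_pos _), Nat.div_eq_of_lt (pack_lt h0), zero_add,
        Nat.mod_eq_of_lt (hf i hi)]
    · obtain ⟨k, rfl⟩ := Nat.exists_eq_add_of_lt h
      rw [add_assoc, pow_add, mul_assoc, Nat.add_mul_div_left _ _ (pow_pos N_pos _), pow_succ',
        mul_assoc, Nat.add_mul_mod_self_left]
      exact ih h0 h

theorem pack_dg {n c : ℕ} (hc : c < P.N ^ n) : P.pack n (P.dg c) = c := by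
  have : ∀ k, P.pack k (P.dg c) = c % P.N ^ k := fun k => by
    induction k with
    | zero => exact (Nat.mod_one c).symm
    | succ k ih => rw [pack_succ, ih, Nat.mod_pow_succ]; rfl
  rw [this, Nat.mod_eq_of_lt hc]

theorem pack_congr {n : ℕ} {f g : ℕ → ℕ} (h : ∀ i < n, f i = g i) : P.pack n f = P.pack n g := by
  rw [pack, pack, sumR_eq, sumR_eq]
  exact Finset.sum_congr rfl fun i hi => by rw [h i (Finset.mem_range.1 hi)]

variable {α β : ZMod P.p}

local notation "𝕂" => QuadraticAlgebra (ZMod (Par.p P)) α β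

variable (P α β) in
/-- decoding of field elements -/
def dec (x : ℕ) : 𝕂 := ⟨x, (x / P.p : ℕ)⟩

/-- encoding of field elements -/
def enc (x : 𝕂) : ℕ := x.re.val + P.p * x.im.val

theorem dec_cd (u v : ℕ) : P.dec α β (P.cd u v) = ⟨u, v⟩ := by
  have h1 := Nat.mod_lt u hp.out.pos
  change (⟨((u % P.p + P.p * (v % P.p) : ℕ) : ZMod P.p),
    (((u % P.p + P.p * (v % P.p)) / P.p : ℕ) : ZMod P.p)⟩ : 𝕂) = _
  rw [Nat.add_mul_div_left _ _ hp.out.pos, Nat.div_eq_of_lt h1]
  simp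

theorem dec_enc (x : 𝕂) : P.dec α β (enc x) = x := by
  rw [dec, enc, Nat.add_mul_div_left _ _ hp.out.pos, Nat.div_eq_of_lt (ZMod.val_lt _)]
  simp

theorem enc_dec {x : ℕ} (hx : x < P.N) : enc (P.dec α β x) = x := by
  have : x / P.p < P.p := Nat.div_lt_of_lt_mul hx
  simp only [enc, dec, ZMod.val_natCast, Nat.mod_eq_of_lt this, Nat.mod_add_div]

theorem enc_lt (x : 𝕂) : enc x < P.N := by
  have h1 := ZMod.val_lt x.re
  have h2 := ZMod.val_lt x.im
  change _ + _ < P.p * P.p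
  nlinarith

theorem dec_inj {x y : ℕ} (hx : x < P.N) (hy : y < P.N) : P.dec α β x = P.dec α β y ↔ x = y :=
  ⟨fun h => by rw [← enc_dec (α := α) (β := β) hx, h, enc_dec hy], fun h => h ▸ rfl⟩

theorem dec_zero : P.dec α β 0 = 0 := by ext <;> simp [dec]

theorem dec_one : P.dec α β 1 = 1 := by
  ext <;> simp [dec, Nat.div_eq_of_lt hp.out.one_lt, QuadraticAlgebra.re_one,
    QuadraticAlgebra.im_one]

theorem div_eq' (x y : ℕ) : Nat.div x y = x / y := rfl

theorem dec_add (x y : ℕ) : P.dec α β (P.add x y) = P.dec α β x + P.dec α β y := by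
  rw [add, force_eq, force_eq, dec_cd]; ext <;> simp [dec, div_eq']

variable (P α β) in
/-- decoding of vectors -/
def decV (n c : ℕ) : Fin n → 𝕂 := fun i => P.dec α β (P.dg c i)

/-- encoding of vectors -/
noncomputable def encV {n : ℕ} (v : Fin n → 𝕂) : ℕ :=
  P.pack n fun i => if h : i < n then enc (v ⟨i, h⟩) else 0

variable (P α β) in
/-- decoding of matrices -/
def decM (n m : ℕ) : Matrix (Fin n) (Fin n) 𝕂 := Matrix.of fun i j => P.dec α β (P.dg m (n * i + j))

theorem encV_lt {n : ℕ} (v : Fin n → 𝕂) : encV v < P.N ^ n :=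
  pack_lt fun i hi => by simp [hi, enc_lt]

theorem decV_encV {n : ℕ} (v : Fin n → 𝕂) : P.decV α β n (encV v) = v := by
  ext1 i
  rw [decV, encV, dg_pack (fun i hi => by simp [hi, enc_lt]) i.2, dif_pos i.2, dec_enc]

theorem encV_decV {n c : ℕ} (hc : c < P.N ^ n) : encV (P.decV α β n c) = c := by
  conv_rhs => rw [← pack_dg hc]
  exact pack_congr fun i hi => by rw [dif_pos hi]; exact enc_dec (dg_lt _ _)

theorem exists_decV {n : ℕ} (v : Fin n → 𝕂) : ∃ c < P.N ^ n, P.decV α β n c = v :=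
  ⟨_, encV_lt v, decV_encV v⟩

theorem dec_sumc (n : ℕ) (f : ℕ → ℕ) : P.dec α β (P.sumc n f) = ∑ i : Fin n, P.dec α β (f i) := by
  induction n with
  | zero => exact dec_zero
  | succ n ih => rw [Fin.sum_univ_castSucc]; exact (dec_add _ _).trans (by rw [← sumc, ih]; rfl)

theorem idx_lt {n : ℕ} (i j : Fin n) : n * i + j < Nat.mul n n := by
  have := i.2; have := j.2; change _ < n * n; nlinarith

theorem idx_div {n : ℕ} (i j : Fin n) : Nat.div (n * i + j) n = i := by
  change (n * i + j) / n = i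
  rw [Nat.mul_add_div (by have := j.2; omega), Nat.div_eq_of_lt j.2, add_zero]

theorem idx_mod {n : ℕ} (i j : Fin n) : Nat.mod (n * i + j) n = j := by
  change (n * i + j) % n = j
  rw [Nat.mul_add_mod, Nat.mod_eq_of_lt j.2]

theorem decM_mone (n : ℕ) : P.decM α β n (P.mone n) = 1 := by
  ext1 i j
  rw [decM, Matrix.of_apply, mone, dg_pack (fun t _ => by
    cases Nat.beq _ _; exacts [N_pos, one_lt_N]) (idx_lt i j), idx_div, idx_mod, Matrix.one_apply]
  by_cases h : i = j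
  · subst h; simp [dec_one]
  · rw [if_neg h, (Bool.not_eq_true _).mp fun h' => h (Fin.ext (Nat.eq_of_beq_eq_true h'))]
    exact dec_zero

theorem decM_inj {n m m' : ℕ} (hm : m < P.N ^ (n * n)) (hm' : m' < P.N ^ (n * n))
    (h : P.decM α β n m = P.decM α β n m') : m = m' := by
  rw [← pack_dg hm, ← pack_dg hm']
  refine pack_congr fun t ht => (dec_inj (α := α) (β := β) (dg_lt _ _) (dg_lt _ _)).1 ?_
  have hn : 0 < n := Nat.pos_of_ne_zero (by rintro rfl; simp at ht)
  have := congrFun (congrFun h ⟨t / n, Nat.div_lt_of_lt_mul ht⟩) ⟨t % n, Nat.mod_lt _ hn⟩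
  simpa [decM, Nat.div_add_mod] using this

theorem act_lt (n m c : ℕ) : P.act n m c < P.N ^ n := pack_lt fun _ _ => sumc_lt _ _

theorem mmul_lt (n m m' : ℕ) : P.mmul n m m' < P.N ^ (n * n) := pack_lt fun _ _ => sumc_lt _ _

variable (P α β) in
/-- The parameters describe the field. -/
structure OK : Prop where
  ha : (P.a : ZMod P.p) = α
  hb : (P.b : ZMod P.p) = β

variable (P) in
/-- The set of vectors with a given mask. -/
def SL (n L : ℕ) : Set (Fin n → 𝕂) := {v | tb L (encV v) = true}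

theorem decV_mem_SL {n L c : ℕ} (hc : c < P.N ^ n) :
    P.decV α β n c ∈ P.SL n L ↔ tb L c = true := by
  rw [SL, Set.mem_ofPred_eq, encV_decV hc]

namespace OK

variable (h : P.OK α β)
include h

theorem dec_mul (x y : ℕ) : P.dec α β (P.mul x y) = P.dec α β x * P.dec α β y := by
  rw [mul, force_eq, force_eq, dec_cd]
  ext
  · simp [dec, ← h.ha, div_eq', mul_assoc]
  · simp [dec, ← h.hb, div_eq', mul_assoc]

theorem dec_cj (x : ℕ) : P.dec α β (P.cj x) = star (P.dec α β x) := by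
  rw [cj, force_eq, dec_cd]
  ext
  · simp [dec, ← h.hb, div_eq']
  · have : ((Nat.pred P.p : ℕ) : ZMod P.p) = -1 := by
      rw [Nat.pred_eq_sub_one, Nat.cast_sub hp.out.one_le]; simp
    simp only [dec, Nat.mul_eq, Nat.cast_mul, this, QuadraticAlgebra.im_star, neg_mul, one_mul]
    rfl

theorem dec_prodc (n : ℕ) (f : ℕ → ℕ) :
    P.dec α β (P.prodc n f) = ∏ i : Fin n, P.dec α β (f i) := by
  induction n with
  | zero => exact dec_one
  | succ n ih => rw [Fin.prod_univ_castSucc]; exact (h.dec_mul _ _).trans (by rw [← prodc, ih]; rfl)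

theorem decV_act (n m c : ℕ) :
    P.decV α β n (P.act n m c) = P.decM α β n m *ᵥ P.decV α β n c := by
  ext1 i
  rw [decV, act, dg_pack (fun _ _ => sumc_lt _ _) i.2, dec_sumc]
  simp only [h.dec_mul]
  rfl

theorem decM_mmul (n m m' : ℕ) :
    P.decM α β n (P.mmul n m m') = P.decM α β n m * P.decM α β n m' := by
  ext1 i j
  rw [decM, Matrix.of_apply, mmul, dg_pack (fun _ _ => sumc_lt _ _) (idx_lt i j), dec_sumc,
    idx_div, idx_mod]
  simp only [h.dec_mul]
  rfl

theorem decM_mpow (n m k : ℕ) : P.decM α β n (P.mpow n m k) = P.decM α β n m ^ k := by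
  induction k with
  | zero => exact decM_mone n
  | succ k ih => rw [pow_succ, ← ih, ← h.decM_mmul]; exact congrArg _ (force_eq _ fun x => P.mmul n x m)

theorem decM_madj (n m : ℕ) : P.decM α β n (P.madj n m) = (P.decM α β n m)ᵀ.map star := by
  ext1 i j
  rw [decM, Matrix.of_apply, madj, dg_pack (fun _ _ => cj_lt _) (idx_lt i j), idx_div, idx_mod,
    h.dec_cj]
  rfl

theorem mapsTo_of_chk {n L m : ℕ} (hc : P.chk n L m = true) {v : Fin n → 𝕂} (hv : v ∈ P.SL n L) :
    P.decM α β n m *ᵥ v ∈ P.SL n L := by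
  obtain ⟨c, hc', rfl⟩ := exists_decV v
  have := (allBB_iff _ _).1 hc c hc'
  rw [(decV_mem_SL hc').1 hv] at this
  rw [← h.decV_act, decV_mem_SL (act_lt _ _ _)]
  exact this

theorem det_decM (m : ℕ) : (P.decM α β 3 m).det = P.dec α β (P.det3 m) := by
  have : P.dec α β (Nat.pred P.p) = -1 := by
    ext
    · simp [dec, Nat.cast_sub hp.out.one_le, QuadraticAlgebra.re_one]
    · simp [dec, Nat.div_eq_of_lt (Nat.sub_lt hp.out.pos one_pos), QuadraticAlgebra.im_one]
  simp only [det3, dec_add, h.dec_mul, this, Matrix.det_fin_three, decM, Matrix.of_apply]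
  norm_num
  ring

end OK

theorem decV_eq_zero {n c : ℕ} (hc : c < P.N ^ n) (h : P.decV α β n c = 0) : c = 0 := by
  have h0 : P.decV α β n 0 = 0 := funext fun i => by simp [decV, dg, div_eq', show ∀ x y, Nat.mod x y = x % y from fun _ _ => rfl, dec_zero]
  rw [← encV_decV (α := α) (β := β) hc, h, ← h0, encV_decV (pow_pos N_pos _)]

theorem mem_of_chkKey {n L R : ℕ} {key : ℕ → ℕ} (h : P.chkKey n L R key = true) {c : ℕ}
    (hc : c < P.N ^ n) : P.decV α β n c ∈ P.SL n L ↔ tb R (key c) = true := by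
  have := (allBB_iff _ _).1 h c hc
  rw [decV_mem_SL hc]
  revert this
  cases tb L c <;> cases tb R (key c) <;> simp

variable [hi : Fact (∀ r : ZMod P.p, r ^ 2 ≠ α + β * r)]

instance instUF : UF 𝕂 P.p := by
  have : NeZero P.p := ⟨hp.out.ne_zero⟩
  exact UF.of_card (by rw [card_quadraticAlgebra, ZMod.card])

theorem mem_stabilizing {n : ℕ} {S : Set (Fin n → 𝕂)} {g : GL (Fin n) 𝕂}
    (h : ∀ v ∈ S, (g : Matrix (Fin n) (Fin n) 𝕂) *ᵥ v ∈ S) :
    g ∈ stabilizing (glToMat (Fin n) 𝕂) S := fun v => ⟨h v, fun hv => by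
  have := (instUF (P := P) (α := α) (β := β)).finite
  have hinj := Matrix.mulVec_injective_of_isUnit g.isUnit
  obtain ⟨u, hu, e⟩ := (((Set.toFinite S).injOn_iff_bijOn_of_mapsTo h).1 hinj.injOn).surjOn hv
  rwa [← hinj e]⟩

variable (P α β) in
/-- The parameters describe the field and its involution. -/
structure OKU : Prop extends P.OK α β where
  hs : ∀ x : 𝕂, x ^ P.p = star x

namespace OKU

variable (h : P.OKU α β)
include h

theorem dec_cj' (x : ℕ) : P.dec α β (P.cj x) = conj 𝕂 P.p (P.dec α β x) :=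
  (h.dec_cj x).trans (h.hs _).symm

theorem dec_hc (n c c' : ℕ) :
    P.dec α β (P.hc n c c') = hermForm n 𝕂 P.p (P.decV α β n c) (P.decV α β n c') := by
  simp only [hc, dec_sumc, h.dec_mul, h.dec_cj', herm_eq, decV]

theorem pres {n m : ℕ} (hm : P.chkU n m = true) : Pres P.p (P.decM α β n m) := by
  have h1 := congrArg (P.decM α β n) (Nat.eq_of_beq_eq_true hm)
  rw [h.decM_mmul, h.decM_madj, decM_mone, ← funext h.hs] at h1
  have h2 := congrArg (fun M => M.map (conj 𝕂 P.p)) h1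
  simp only [Matrix.map_mul, Matrix.map_map, Matrix.map_one _ (map_zero _) (map_one _)] at h2
  rw [pres_iff, ← h2]
  congr 1
  ext1 i j
  exact (conj_conj _).symm

/-- A unitary matrix from its code. -/
noncomputable def gu {n m : ℕ} (hm : P.chkU n m = true) : GL (Fin n) 𝕂 :=
  (mkGU _ (h.pres hm) : GU n 𝕂 P.p)

theorem coe_gu {n m : ℕ} (hm : P.chkU n m = true) :
    (h.gu hm : Matrix (Fin n) (Fin n) 𝕂) = P.decM α β n m := rfl

theorem gu_mem {n m : ℕ} (hm : P.chkU n m = true) : h.gu hm ∈ GU n 𝕂 P.p := Subtype.mem _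

theorem gu_mem_su3 {m : ℕ} (hm : P.chkU 3 m = true) (hd : P.det3 m = 1) :
    h.gu hm ∈ suG 3 𝕂 P.p :=
  ⟨h.gu_mem hm, mem_specialLinear.2 (by rw [coe_gu, h.det_decM, hd, dec_one])⟩

theorem gu_mem_su {n m k : ℕ} (hm : P.chkU n m = true) (hk : P.mpow n m k = P.mone n)
    (hc : Nat.Coprime k (P.p + 1)) : h.gu hm ∈ suG n 𝕂 P.p := by
  refine ⟨h.gu_mem hm, mem_specialLinear.2 ?_⟩
  have h1 := congrArg (fun x => (P.decM α β n x).det) hk
  simp only [h.decM_mpow, decM_mone, Matrix.det_pow, Matrix.det_one] at h1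
  have h2 := (h.pres hm).det_mul_conj
  rw [mul_conj_eq_pow] at h2
  have := pow_gcd_eq_one.2 ⟨h1, h2⟩
  rwa [hc, pow_one] at this

theorem gu_stab {n m L : ℕ} (hm : P.chkU n m = true) (hc : P.chk n L m = true) :
    h.gu hm ∈ stabilizing (glToMat (Fin n) 𝕂) (P.SL n L) :=
  mem_stabilizing fun _ => h.mapsTo_of_chk hc

theorem false_of_SL {n L v w : ℕ} (hn : 3 ≤ n) {H : Subgroup (GL (Fin n) 𝕂)}
    (hH : IsMaximalIn (suG n 𝕂 P.p) H) (hle : H ≤ stabilizing (glToMat (Fin n) 𝕂) (P.SL n L))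
    (hs : P.chkSep n L v w = true) {g : GL (Fin n) 𝕂}
    (h1 : g ∈ stabilizing (glToMat (Fin n) 𝕂) (P.SL n L)) (h2 : g ∈ suG n 𝕂 P.p) (h3 : g ∉ H) :
    False := by
  simp only [chkSep, Bool.and_eq_true, Nat.blt_eq, Bool.not_eq_true', Nat.beq_eq] at hs
  obtain ⟨⟨⟨⟨⟨⟨a1, a2⟩, a3⟩, a4⟩, a5⟩, a6⟩, a7⟩ := hs
  refine false_of_maximal hH hle (su_not_le_stabilizing hn (fun e => a1.ne' (decV_eq_zero a3 e))
    (fun e => a2.ne' (decV_eq_zero a4 e)) (by rw [← h.dec_hc, ← h.dec_hc, a7])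
    ((decV_mem_SL a3).2 a5) (by rw [decV_mem_SL a4, a6]; simp)) h1 h2 h3

theorem mono_stab {n L R κ : ℕ} (hk : P.chkKey n L R (P.kc n κ) = true) {g : GL (Fin n) 𝕂}
    (hg : g ∈ suG n 𝕂 P.p) (hm : Mono (g : Matrix (Fin n) (Fin n) 𝕂)) :
    g ∈ stabilizing (glToMat (Fin n) 𝕂) (P.SL n L) := by
  have key : ∀ c, P.kc n κ c = enc (hermForm n 𝕂 P.p (P.decV α β n c) (P.decV α β n c)) + P.N *
      (enc (∏ i, (1 + P.dec α β κ * (P.decV α β n c i * conj 𝕂 P.p (P.decV α β n c i)))) +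
        P.N * enc ((∏ i, P.decV α β n c i) ^ 2)) := fun c => by
    simp only [← h.dec_hc, decV, ← h.dec_cj', ← h.dec_mul, ← dec_one (α := α) (β := β), ← dec_add,
      ← h.dec_prodc n (P.dg c), ← h.dec_prodc n fun i =>
        P.add 1 (P.mul κ (P.mul (P.dg c i) (P.cj (P.dg c i)))), sq]
    rw [hc, enc_dec (sumc_lt _ _), enc_dec (prodc_lt _ _), enc_dec (mul_lt _ _)]
    rfl
  refine mem_stabilizing fun v hv => ?_
  obtain ⟨π, c, h1, h2⟩ := hm
  have h3 := Mono.norm hg.1 h1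
  obtain ⟨x, hx, rfl⟩ := exists_decV v
  obtain ⟨y, hy, e⟩ := exists_decV ((g : Matrix (Fin n) (Fin n) 𝕂) *ᵥ P.decV α β n x)
  have h4 : (∏ j, c j) ^ 2 = 1 := by
    rw [mem_specialLinear.1 hg.2] at h2
    have h4 := congrArg (· ^ 2) h2
    rcases Int.units_eq_one_or (Equiv.Perm.sign π) with h5 | h5 <;> simpa [h5] using h4.symm
  rw [mem_of_chkKey hk hx, key] at hv
  rw [← e, mem_of_chkKey hk hy, key, e, mem_GU_iff.1 hg.1, ← Equiv.prod_comp π,
    ← Equiv.prod_comp π (_ *ᵥ _)]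
  have h5 : ∀ j (z : 𝕂), c j * z * conj 𝕂 P.p (c j * z) = z * conj 𝕂 P.p z := fun j z => by
    rw [map_mul, mul_mul_mul_comm, h3, one_mul]
  simp only [h1, h5, Finset.prod_mul_distrib, mul_pow, h4, one_mul]
  exact hv

theorem false_of_mono {n L R κ v w m : ℕ} (hn : 3 ≤ n) {H : Subgroup (GL (Fin n) 𝕂)}
    (hH : IsMaximalIn (suG n 𝕂 P.p) H) (hm : ∀ g ∈ H, Mono (g : Matrix (Fin n) (Fin n) 𝕂))
    (hk : P.chkKey n L R (P.kc n κ) = true) (hs : P.chkSep n L v w = true)
    (hu : P.chkU n m = true) (hc : P.chk n L m = true) (hsu : h.gu hu ∈ suG n 𝕂 P.p)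
    (h0 : P.dg m 0 ≠ 0) (h1 : P.dg m n ≠ 0) : False := by
  refine h.false_of_SL hn hH (fun g hg => h.mono_stab hk (hH.1.le hg) (hm g hg)) hs
    (h.gu_stab hu hc) hsu fun hg => ?_
  obtain ⟨π, c, h2, -⟩ := hm _ hg
  have key : ∀ i : Fin n, P.dg m (n * i) ≠ 0 → i = π ⟨0, by omega⟩ := fun i hi => by
    obtain ⟨j, rfl⟩ := π.surjective i
    by_contra hj
    have := h2 (Pi.single ⟨0, by omega⟩ 1) j
    rw [Pi.single_eq_of_ne fun e => hj (congrArg π e), mul_zero, Matrix.mulVec_single_one,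
      ← dec_zero] at this
    exact hi ((dec_inj (dg_lt _ _) N_pos).1 this)
  have := (key ⟨0, by omega⟩ h0).trans (key ⟨1, by omega⟩ (by simpa using h1)).symm
  simp at this

end OKU

end Par

/-- the parameters of `GF4` -/
abbrev P4 : Par := ⟨2, 1, 1⟩
/-- the parameters of `GF9` -/
abbrev P9 : Par := ⟨3, 2, 0⟩
/-- the parameters of `GF25` -/
abbrev P25 : Par := ⟨5, 2, 0⟩

theorem ok4 : P4.OKU 1 1 := ⟨⟨rfl, rfl⟩, by decide +kernel⟩
theorem ok9 : P9.OKU 2 0 := ⟨⟨rfl, rfl⟩, by decide +kernel⟩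
theorem ok25 : P25.OKU 2 0 := ⟨⟨rfl, rfl⟩, by decide +kernel⟩

end Cfsg.Agent.Class.Asch.FQ
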