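import Cfsg.Agent.Class.Asch.SUTi
import Cfsg.Agent.Class.Asch.SL34
import Cfsg.Agent.Class.Asch.FastQ

/-! Fields acting on a unitary space: normal forms and Singer normalisers. -/

set_option autoImplicit false
set_option linter.unusedSectionVars false

namespace Cfsg.Agent.Class.Asch

open Cfsg.Geo Cfsg.Agent.Class.U Polynomial
open scoped MatrixGroups Matrix

variable {F : Type*} [Field F] [Fintype F] {q n : ℕ} [hU : UF F q] [NeZero n]
  {L : Type*} [Field L] [Finite L] [Algebra F L]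

local notation "𝐡" => hermForm n F q
local notation "σ" => conj F q
local notation "Mat" => Matrix (Fin n) (Fin n) F

theorem card_of_UF : Fintype.card F = q ^ 2 := by rw [← hU.card_eq, Nat.card_eq_fintype_card]

variable (q) in
/-- A field of matrices on which the adjoint is `s`. -/
def FRep (ρ : L →ₐ[F] Mat) (s : L →+* L) : Prop :=
  ∀ x u v, 𝐡 (ρ x *ᵥ u) v = 𝐡 u (ρ (s x) *ᵥ v)

/-- The map `x ↦ x v`. -/
def evρ (ρ : L →ₐ[F] Mat) (v : Fin n → F) : L →ₗ[F] (Fin n → F) where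
  toFun x := ρ x *ᵥ v
  map_add' x y := by rw [map_add, Matrix.add_mulVec]
  map_smul' c x := by rw [map_smul, Matrix.smul_mulVec]; rfl

theorem rep_mulVec (ρ : L →ₐ[F] Mat) (x y : L) (v : Fin n → F) :
    ρ x *ᵥ (ρ y *ᵥ v) = ρ (x * y) *ᵥ v := by rw [Matrix.mulVec_mulVec, map_mul]

theorem evρ_bijective (ρ : L →ₐ[F] Mat) (hL : Module.finrank F L = n) {v : Fin n → F} (hv : v ≠ 0) :
    Function.Bijective (evρ ρ v) := by
  have hinj : Function.Injective (evρ ρ v) := by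
    rw [← LinearMap.ker_eq_bot, eq_bot_iff]
    intro x (hx : ρ x *ᵥ v = 0)
    by_contra h0
    apply hv
    rw [← Matrix.one_mulVec v, ← map_one ρ, ← inv_mul_cancel₀ h0, ← rep_mulVec, hx,
      Matrix.mulVec_zero]
  exact ⟨hinj, (LinearMap.injective_iff_surjective_of_finrank_eq_finrank (by simp [hL])).1 hinj⟩

theorem det_rep (ρ : L →ₐ[F] Mat) (hL : Module.finrank F L = n) (x : L) :
    (ρ x).det = Algebra.norm F x := by
  obtain ⟨v, hv⟩ := exists_vec_ne_zero (ι := Fin n) (F := F)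
  let E := LinearEquiv.ofBijective _ (evρ_bijective ρ hL hv)
  rw [Algebra.norm_apply, ← LinearMap.det_conj _ E, ← LinearMap.det_toLin']
  congr 1
  refine LinearMap.ext fun w => ?_
  obtain ⟨y, rfl⟩ := E.surjective w
  simp only [LinearMap.comp_apply, LinearEquiv.coe_coe, LinearEquiv.symm_apply_apply,
    Matrix.toLin'_apply]
  exact rep_mulVec ρ x y v

theorem eq_rep_of_comm (ρ : L →ₐ[F] Mat) (hL : Module.finrank F L = n) {X : Mat}
    (hX : ∀ x, X * ρ x = ρ x * X) : ∃ x, X = ρ x := by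
  obtain ⟨v, hv⟩ := exists_vec_ne_zero (ι := Fin n) (F := F)
  have hb := (evρ_bijective ρ hL hv).2
  obtain ⟨k, hk : ρ k *ᵥ v = _⟩ := hb (X *ᵥ v)
  refine ⟨k, ext_mulVec fun w => ?_⟩
  obtain ⟨y, rfl⟩ := hb w
  change X *ᵥ (ρ y *ᵥ v) = ρ k *ᵥ (ρ y *ᵥ v)
  rw [Matrix.mulVec_mulVec, hX, ← Matrix.mulVec_mulVec, ← hk, rep_mulVec, rep_mulVec, mul_comm]

theorem exists_aut_of_norm (ρ : L →ₐ[F] Mat) {g : GL (Fin n) F}
    (hg : ∀ x, ∃ y, cj g (ρ x) = ρ y) : ∃ τ : L ≃ₐ[F] L, ∀ x, cj g (ρ x) = ρ (τ x) := by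
  let e := AlgEquiv.ofInjective ρ ρ.injective
  let τ : L →ₐ[F] L := e.symm.toAlgHom.comp
    (((cj g).toAlgHom.comp ρ).codRestrict ρ.range fun x => (hg x).imp fun _ h => h.symm)
  refine ⟨AlgEquiv.ofBijective τ τ.bijective, fun x => ?_⟩
  exact (congrArg Subtype.val (e.apply_symm_apply ⟨cj g (ρ x), (hg x).imp fun _ h => h.symm⟩)).symm

theorem exists_pow_of_aut (τ : L ≃ₐ[F] L) : ∃ i : ℕ, ∀ x, τ x = x ^ (q ^ 2) ^ i := by
  obtain ⟨i, rfl⟩ := (FiniteField.bijective_frobeniusAlgEquivOfAlgebraic_pow F L).2 τ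
  refine ⟨i, fun x => ?_⟩
  rw [AlgEquiv.coe_pow, FiniteField.coe_frobeniusAlgEquivOfAlgebraic_iterate, card_of_UF (q := q)]

theorem comm_rep_of_gen (ρ : L →ₐ[F] Mat) (pb : PowerBasis F L) {X : Mat}
    (h : Commute X (ρ pb.gen)) (x : L) : X * ρ x = ρ x * X := by
  obtain ⟨f, rfl⟩ := pb.exists_eq_aeval' x
  rw [← aeval_algHom_apply, aeval_eq_sum_range, Finset.mul_sum, Finset.sum_mul]
  exact Finset.sum_congr rfl fun i _ => ((h.pow_right i).smul_right _).eq

namespace FRep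

variable {ρ θ : L →ₐ[F] Matrix (Fin n) (Fin n) F} {s : L →+* L} (h : FRep q ρ s)
include h

theorem unique {x y : L} (hxy : ∀ u v, 𝐡 (ρ x *ᵥ u) v = 𝐡 u (ρ y *ᵥ v)) : s x = y :=
  ρ.injective ((fc_herm.adj_unique (h x)).symm.trans (fc_herm.adj_unique hxy))

theorem invol (x : L) : s (s x) = x :=
  h.unique fun u v => by rw [← herm_conj, ← h, herm_conj]

theorem alg (c : F) : s (algebraMap F L c) = algebraMap F L (σ c) :=
  h.unique fun u v => by
    simp only [AlgHom.commutes, Algebra.algebraMap_eq_smul_one, map_smul, map_one,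
      Matrix.smul_mulVec, Matrix.one_mulVec, herm_smul_left, herm_smul_right, conj_conj]

theorem ne_id : s ≠ RingHom.id L := fun h0 => by
  obtain ⟨x, hx⟩ := exists_conj_ne F q
  have := h.alg x
  rw [h0] at this
  exact hx ((algebraMap F L).injective this).symm

theorem eq_pow (ho : Odd (Module.finrank F L)) (x : L) : s x = x ^ q ^ Module.finrank F L := by
  obtain ⟨p, d, hp, hchar, rfl, -⟩ := exists_prime_pow F q
  have := Fact.mk hp
  have : CharP L p := charP_of_injective_algebraMap (algebraMap F L).injective p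
  let ψ : L →ₐ[F] L :=
    { (iterateFrobenius L p d).comp s with
      commutes' := fun c => by
        change (s (algebraMap F L c)) ^ p ^ d = _
        rw [h.alg, ← map_pow, ← conj_apply, conj_conj] }
  have h1 : ∀ j x, ψ^[2 * j + 1] x = s x ^ (p ^ d) ^ (2 * j + 1) := fun j => by
    induction j with
    | zero => intro x; simp only [mul_zero, zero_add, pow_one]; rfl
    | succ j ih =>
      intro x
      rw [show 2 * (j + 1) + 1 = (2 * j + 1).succ.succ by omega, Function.iterate_succ_apply',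
        Function.iterate_succ_apply', ih]
      change s (s (s x ^ _) ^ p ^ d) ^ p ^ d = _
      rw [map_pow s, map_pow s, map_pow s, h.invol, ← pow_mul, ← pow_mul, ← mul_assoc,
        ← pow_succ, ← pow_succ]
  obtain ⟨k, hk⟩ := ho
  have h2 := algHom_iterate_finrank ψ (s x)
  rw [hk, h1, h.invol] at h2
  rw [hk, h2]

theorem comm_aut (ho : Odd (Module.finrank F L)) (τ : L ≃ₐ[F] L) (x : L) : s (τ x) = τ (s x) := by
  rw [h.eq_pow ho, h.eq_pow ho, map_pow]

theorem herm (x y : L) (u v : Fin n → F) : 𝐡 (ρ x *ᵥ u) (ρ y *ᵥ v) = 𝐡 (ρ (x * s y) *ᵥ u) v := by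
  rw [h (x * s y), map_mul s, h.invol, ← rep_mulVec, ← h]

theorem mul_eq_one {x : L} (hx : Pres q (ρ x)) : x * s x = 1 :=
  ρ.injective (ext_mulVec fun u => sub_eq_zero.1 (eq_zero_of_herm_left (q := q) fun v => by
    change 𝐡 (ρ _ *ᵥ u - ρ 1 *ᵥ u) v = 0
    rw [herm_sub_left, ← h.herm, hx, map_one, Matrix.one_mulVec, sub_self]))

theorem rescale {l : L →ₗ[F] F} (h0 : l ≠ 0) (hl : ∀ x, l (s x) = σ (l x)) {v : Fin n → F}
    (hv : 𝐡 v v ≠ 0) : ∃ c : L, ∀ x y,
      𝐡 (ρ x *ᵥ (ρ c *ᵥ v)) (ρ y *ᵥ (ρ c *ᵥ v)) = l (x * s y) := by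
  let Φ : L →ₗ[F] Module.Dual F L := (LinearMap.mul F L).compr₂ l
  have hinj : Function.Injective Φ := by
    rw [← LinearMap.ker_eq_bot, eq_bot_iff]
    intro a ha
    by_contra h1
    refine h0 (LinearMap.ext fun x => ?_)
    have : l (a * (a⁻¹ * x)) = 0 := LinearMap.congr_fun ha _
    rwa [mul_inv_cancel_left₀ h1] at this
  let lv : Module.Dual F L :=
    { toFun := fun x => 𝐡 (ρ x *ᵥ v) v
      map_add' := fun x y => by rw [map_add, Matrix.add_mulVec, herm_add_left]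
      map_smul' := fun c x => by rw [map_smul, Matrix.smul_mulVec, herm_smul_left]; rfl }
  obtain ⟨a, ha⟩ := (LinearMap.injective_iff_surjective_of_finrank_eq_finrank
    Subspace.dual_finrank_eq.symm).1 hinj lv
  have ha' : ∀ x, l (a * x) = 𝐡 (ρ x *ᵥ v) v := fun x => LinearMap.congr_fun ha x
  have ha0 : a ≠ 0 := by
    rintro rfl
    have := ha' 1
    rw [zero_mul, map_zero, map_one, Matrix.one_mulVec] at this
    exact hv this.symm
  have has : s a = a := hinj (LinearMap.ext fun x => by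
    change l (s a * x) = l (a * x)
    rw [← h.invol x, ← map_mul, hl, ha', ha', herm_conj, ← h, h.invol])
  obtain ⟨c, hc⟩ := exists_mul_conj_eq h.ne_id h.invol (c := a⁻¹) (by rw [map_inv₀, has])
  refine ⟨c, fun x y => ?_⟩
  rw [rep_mulVec, rep_mulVec, h.herm, ← ha', map_mul s, mul_mul_mul_comm, hc, mul_comm a,
    inv_mul_cancel_right₀ ha0]

/-- Two fields of degree `n` are conjugate. -/
theorem exists_conj (h' : FRep q θ s) (hL : Module.finrank F L = n) :
    ∃ T ∈ GU n F q, ∀ x, cj T (θ x) = ρ x := by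
  let e : Fin n → F := Pi.single 0 1
  have he : 𝐡 e e ≠ 0 := by simp [e, herm_single_single]
  have he0 : e ≠ 0 := by rintro h0; rw [h0, herm_zero_left] at he; exact he rfl
  let l : L →ₗ[F] F :=
    { toFun := fun x => 𝐡 (θ x *ᵥ e) e
      map_add' := fun x y => by rw [map_add, Matrix.add_mulVec, herm_add_left]
      map_smul' := fun c x => by rw [map_smul, Matrix.smul_mulVec, herm_smul_left]; rfl }
  have hl1 : l 1 ≠ 0 := by
    change 𝐡 (θ 1 *ᵥ e) e ≠ 0
    rwa [map_one, Matrix.one_mulVec]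
  obtain ⟨c, hc⟩ := h.rescale (l := l) (fun h0 => hl1 (by rw [h0]; rfl)) (fun x => by
    change 𝐡 _ _ = σ (𝐡 _ _)
    rw [herm_conj, h', h.invol, ← herm_conj, h', herm_conj]) he
  have hv : ρ c *ᵥ e ≠ 0 := fun h0 => hl1 (by
    have := hc 1 1
    rw [h0, Matrix.mulVec_zero, herm_zero_left, map_one, mul_one] at this
    exact this.symm)
  let E := LinearEquiv.ofBijective _ (evρ_bijective ρ hL hv)
  let E' := LinearEquiv.ofBijective _ (evρ_bijective θ hL he0)
  have hT : ∀ x, (glOfEquiv (E'.symm.trans E) : Mat) *ᵥ (θ x *ᵥ e) = ρ x *ᵥ (ρ c *ᵥ e) := fun x => by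
    rw [glOfEquiv_mulVec, LinearEquiv.trans_apply]
    exact congrArg E (E'.symm_apply_apply x)
  refine ⟨glOfEquiv (E'.symm.trans E), fun u v => ?_, fun x => ext_mulVec fun v => ?_⟩
  · obtain ⟨x, rfl⟩ := E'.surjective u
    obtain ⟨y, rfl⟩ := E'.surjective v
    exact ((congrArg₂ 𝐡 (hT x) (hT y)).trans (hc x y)).trans (h'.herm x y e e).symm
  · obtain ⟨y, rfl⟩ := E.surjective v
    change _ *ᵥ (ρ y *ᵥ (ρ c *ᵥ e)) = _ *ᵥ (ρ y *ᵥ (ρ c *ᵥ e))
    rw [← hT, cj_mulVec, rep_mulVec, hT, hT, rep_mulVec ρ x]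

theorem exists_rep (hL : Module.finrank F L = n) (hn : n.Prime) (ho : Odd n) {Y W : Mat}
    (hY : Pres q Y) {N : ℕ} (hN : N ∣ q ^ n + 1) (hc : N.Coprime (q ^ 2 - 1)) (h1 : Y ^ N = 1)
    (hW : (Y - 1) * W = 1) :
    ∃ (θ : L →ₐ[F] Mat) (pb : PowerBasis F L), FRep q θ s ∧ θ pb.gen = Y := by
  have := Fintype.ofFinite L
  have hq := two_le_q F q
  have hLc : Fintype.card L = (q ^ n) ^ 2 := by
    rw [Module.card_eq_pow_finrank (K := F), hL, card_of_UF (q := q), ← pow_mul, ← pow_mul, mul_comm]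
  have hYi : IsIntegral F Y := Algebra.IsIntegral.isIntegral Y
  have hYq : Y ^ (q ^ n + 1) = 1 := by obtain ⟨k, hk⟩ := hN; rw [hk, pow_mul, h1, one_pow]
  have hYL : Y ^ Fintype.card L = Y := by
    obtain ⟨m, hm⟩ : ∃ m, q ^ n = m + 1 := ⟨q ^ n - 1, by have := Nat.one_le_pow n q; omega⟩
    rw [hLc, show (q ^ n) ^ 2 = (q ^ n + 1) * m + 1 by rw [hm]; ring, pow_succ, pow_mul, hYq,
      one_pow, one_mul]
  obtain ⟨p, d, hp, hchar, -, -⟩ := exists_prime_pow F q
  have := Fact.mk hp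
  have : CharP L p := charP_of_injective_algebraMap (algebraMap F L).injective p
  have hsp : ((minpoly F Y).map (algebraMap F L)).Splits := by
    have h2 : minpoly F Y ∣ X ^ Fintype.card L - X := minpoly.dvd _ _ (by simp [hYL])
    refine (FiniteField.isSplittingField_sub L F).splits.of_dvd ?_ (Polynomial.map_dvd _ h2)
    exact (Polynomial.map_ne_zero_iff (algebraMap F L).injective).2
      (FiniteField.X_pow_card_sub_X_ne_zero F Fintype.one_lt_card)
  obtain ⟨ζ, hζ⟩ := hsp.exists_eval_eq_zero (by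
    rw [degree_map]; exact (minpoly.degree_pos hYi).ne')
  rw [eval_map_algebraMap] at hζ
  have hp : ∀ g : F[X], aeval Y g = 0 → aeval ζ g = 0 := fun g hg => by
    obtain ⟨k, hk⟩ := minpoly.dvd F Y hg
    rw [hk, map_mul, hζ, zero_mul]
  have hp' : ∀ k, Y ^ k = 1 → ζ ^ k = 1 := fun k hk => by
    have := hp (X ^ k - 1) (by simp [hk])
    rwa [map_sub, map_pow, aeval_X, map_one, sub_eq_zero] at this
  have hζN := hp' N h1
  have hζF : ζ ∉ (⊥ : Subalgebra F L) := by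
    rintro ⟨c, rfl⟩
    have hc1 : c ^ N = 1 := (algebraMap F L).injective (by rw [map_pow, map_one]; exact hζN)
    have hc0 : c ≠ 0 := by
      rintro rfl
      have : N ≠ 0 := by rintro rfl; simp at hN
      simp [this] at hc1
    have hc2 : c ^ (q ^ 2 - 1) = 1 := by
      rw [← card_of_UF (F := F)]; exact FiniteField.pow_card_sub_one_eq_one c hc0
    obtain rfl : c = 1 := by
      have := pow_gcd_eq_one.2 ⟨hc1, hc2⟩
      rwa [hc, pow_one] at this
    have h3 : (minpoly F Y).IsRoot 1 := (algebraMap F L).injective (by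
      rw [map_zero, ← hζ]; exact (aeval_algebraMap_apply_eq_algebraMap_eval _ _).symm)
    obtain ⟨g, hg⟩ := dvd_iff_isRoot.2 h3
    have h4 : (Y - 1) * aeval Y g = 0 := by
      have := minpoly.aeval F Y
      rw [hg] at this
      simpa using this
    have h5 : aeval Y g = 0 := by
      rw [← one_mul (aeval Y g), ← mul_eq_one_comm.1 hW, mul_assoc, h4, mul_zero]
    have hg0 : g ≠ 0 := by rintro rfl; exact minpoly.ne_zero hYi (by rw [hg, mul_zero])
    have h6 := natDegree_le_of_dvd (minpoly.dvd F Y h5) hg0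
    rw [hg, natDegree_mul (X_sub_C_ne_zero 1) hg0, natDegree_X_sub_C] at h6
    omega
  have hζi : IsIntegral F ζ := Algebra.IsIntegral.isIntegral ζ
  have htop : Algebra.adjoin F {ζ} = ⊤ :=
    ((Subalgebra.isSimpleOrder_of_finrank_prime F L (hL ▸ hn)).eq_bot_or_eq_top _).resolve_left
      fun h0 => hζF (h0 ▸ Algebra.self_mem_adjoin_singleton F ζ)
  let pb := PowerBasis.ofAdjoinEqTop hζi htop
  have hgen : pb.gen = ζ := PowerBasis.ofAdjoinEqTop_gen hζi htop
  have hmin : minpoly F Y = minpoly F pb.gen := by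
    refine eq_of_monic_of_dvd_of_natDegree_le (minpoly.monic (hgen ▸ hζi)) (minpoly.monic hYi)
      (minpoly.dvd _ _ (hgen ▸ hζ)) ?_
    rw [pb.natDegree_minpoly, ← pb.finrank, hL]
    simpa using natDegree_le_of_dvd (Matrix.minpoly_dvd_charpoly Y) Y.charpoly_monic.ne_zero
  let θ := pb.lift Y (hmin ▸ minpoly.aeval F Y)
  have hθ : θ pb.gen = Y := pb.lift_gen _ _
  refine ⟨θ, pb, fun x => ?_, hθ⟩
  have hs : pb.gen * s pb.gen = 1 := by
    rw [h.eq_pow (hL ▸ ho), hL, ← pow_succ', hgen]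
    exact hp' _ hYq
  have hx : x ∈ Algebra.adjoin F {pb.gen} := by rw [pb.adjoin_gen_eq_top]; trivial
  induction hx using Algebra.adjoin_induction with
  | mem x hx =>
    intro u v
    rw [show x = pb.gen from hx, ← hY u, ← hθ, rep_mulVec, hs, map_one, Matrix.one_mulVec]
  | algebraMap c =>
    intro u v
    rw [h.alg]
    simp only [AlgHom.commutes, Algebra.algebraMap_eq_smul_one, map_smul, map_one,
      Matrix.smul_mulVec, Matrix.one_mulVec, herm_smul_left, herm_smul_right, conj_conj]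
  | add x y _ _ hx hy =>
    intro u v
    simp only [map_add, Matrix.add_mulVec, herm_add_left, herm_add_right, hx, hy]
  | mul x y _ _ hx hy =>
    intro u v
    rw [← rep_mulVec, hx, hy, rep_mulVec, ← map_mul, mul_comm]

theorem eq_pow_mul_pow (hL : Module.finrank F L = n) (ho : Odd n) (pb : PowerBasis F L)
    {Z Φ : GL (Fin n) F} (hΦ : Φ ∈ suG n F q) {d : ℕ}
    (hd : ρ pb.gen = (Z : Mat) ^ d)
    (hZ : orderOf Z = Nat.gcd (q ^ n + 1) (((q ^ 2) ^ n - 1) / (q ^ 2 - 1)))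
    (h5 : Φ * Z = Z ^ q ^ 2 * Φ) {g : GL (Fin n) F} (hg : g ∈ suG n F q)
    (hn : ∀ x, ∃ y, cj g (ρ x) = ρ y) :
    (∃ i j : ℕ, g = Φ ^ i * Z ^ j) ∧ Commute (g * Z * g⁻¹) Z := by
  have hq := two_le_q F q
  obtain ⟨z, hz⟩ := eq_rep_of_comm ρ hL (X := Z)
    (comm_rep_of_gen ρ pb (hd ▸ (Commute.refl _).pow_right d))
  obtain ⟨τ, hτ⟩ := exists_aut_of_norm ρ hn
  refine ⟨?_, Units.ext ?_⟩
  swap
  · change cj g (Z : Mat) * Z = Z * cj g (Z : Mat)
    rw [hz, hτ, ← map_mul, ← map_mul, mul_comm]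
  obtain ⟨i, hi⟩ := exists_pow_of_aut (q := q) τ
  have h6 : ∀ k : ℕ, Φ ^ k * Z * (Φ ^ k)⁻¹ = Z ^ (q ^ 2) ^ k := fun k => by
    induction k with
    | zero => simp
    | succ k ih =>
      rw [pow_succ, mul_assoc (Φ ^ k), h5, pow_succ (q ^ 2), pow_mul, ← ih, conj_pow]
      group
  have h7 : cj ((Φ ^ i)⁻¹ * g) (ρ pb.gen) = ρ pb.gen := by
    have : cj g (Z : Mat) = cj (Φ ^ i) Z := by
      rw [cj_coe (Φ ^ i), h6, hz, hτ, hi, Units.val_pow_eq_pow_val, hz, map_pow]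
    rw [hd, map_pow, cj_mul, this, ← cj_mul, inv_mul_cancel, cj_one]
  obtain ⟨x, hx⟩ := eq_rep_of_comm ρ hL (X := ((Φ ^ i)⁻¹ * g : GL (Fin n) F))
    (comm_rep_of_gen ρ pb ((cj_eq_self_iff _ _).1 h7))
  have hxs : (Φ ^ i)⁻¹ * g ∈ suG n F q := mul_mem (inv_mem (pow_mem hΦ i)) hg
  have hz1 : orderOf z = orderOf Z := by
    rw [← orderOf_units, hz]; exact (orderOf_injective ρ.toMonoidHom ρ.injective z).symm
  have hx1 : x ^ orderOf z = 1 := by
    rw [hz1, hZ, pow_gcd_eq_one]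
    constructor
    · rw [pow_succ', ← hL, ← h.eq_pow (hL ▸ ho)]
      exact h.mul_eq_one (hx ▸ hxs.1)
    · have h8 : Algebra.norm F x = 1 := by
        rw [← det_rep ρ hL, ← hx]; exact mem_specialLinear.1 hxs.2
      have := FiniteField.algebraMap_norm_eq_pow (K := F) (x := x)
      rw [h8, map_one, Module.natCard_eq_pow_finrank (K := F) (V := L), hU.card_eq, hL] at this
      exact this.symm
  have : NeZero (orderOf z) := ⟨by rw [hz1]; exact (orderOf_pos Z).ne'⟩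
  obtain ⟨j, -, hj⟩ := (IsPrimitiveRoot.orderOf z).eq_pow_of_pow_eq_one hx1
  refine ⟨i, j, ?_⟩
  rw [← inv_mul_eq_iff_eq_mul]
  exact Units.ext (by rw [hx, ← hj, map_pow, ← hz, Units.val_pow_eq_pow_val])

end FRep

theorem frep_of_field {r : ℕ} {K : Subalgebra F Mat} (hK : IsFieldSubalgebra r K)
    (hA : IsAdjointClosedFor 𝐡 K) : letI := (IsFieldSubalgebra.isField' hK).toField
    ∃ s : K →+* K, FRep q K.val s :=
  ⟨fc_herm.adjHom hK.comm (fc_herm.isAdjointClosedFor_iff.1 hA), fun x => fc_herm.adj_spec (x : Mat)⟩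

/-- The normaliser of a Singer cycle. -/
theorem exists_singer_max (hn : n.Prime) (ho : Odd n) {H : Subgroup (GL (Fin n) F)}
    (hH : IsMaximalIn (suG n F q) H) {K : Subalgebra F Mat} (hK : IsFieldSubalgebra n K)
    (hA : IsAdjointClosedFor 𝐡 K) (h : H = subalgebraNormalizer K ⊓ suG n F q)
    {E : Type*} [Field E] (φ : E ≃+* F) {Z Φ : GL (Fin n) E} (hZs : Z ∈ GU n E q)
    (hΦ : Φ ∈ suG n E q) {d N : ℕ} (hN : N ∣ q ^ n + 1) (hc : N.Coprime (q ^ 2 - 1))
    (h1 : (Z ^ d) ^ N = 1) {W : Matrix (Fin n) (Fin n) E}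
    (hW : ((Z : Matrix (Fin n) (Fin n) E) ^ d - 1) * W = 1)
    (hZ : orderOf Z = Nat.gcd (q ^ n + 1) (((q ^ 2) ^ n - 1) / (q ^ 2 - 1)))
    (h5 : Φ * Z = Z ^ q ^ 2 * Φ) : ∃ H' : Subgroup (GL (Fin n) E), IsMaximalIn (suG n E q) H' ∧
      ∀ g ∈ H', (∃ i j : ℕ, g = Φ ^ i * Z ^ j) ∧ Commute (g * Z * g⁻¹) Z := by
  letI := (IsFieldSubalgebra.isField' hK).toField
  obtain ⟨s, hs⟩ := frep_of_field hK hA
  let ψ := glCongr (Fin n) φ
  obtain ⟨θ, pb, hθ, hY⟩ := hs.exists_rep hK.finrank_eq hn ho (Y := (ψ (Z ^ d) : GL (Fin n) F))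
    (W := W.map φ) (mem_GU_iff.1 (mem_fdS.1 ((fdS_GU φ).symm ▸ pow_mem hZs d))) hN hc
    (by rw [← Units.val_pow_eq_pow_val, ← map_pow, h1, map_one, Units.val_one])
    (by
      have := congrArg φ.mapMatrix hW
      rwa [map_mul, map_sub, map_one] at this)
  obtain ⟨T, hT, hTθ⟩ := hs.exists_conj hθ hK.finrank_eq
  refine ⟨_, isMaximalIn_fdS φ (isMaximalIn_cjBy hT hH), fun g hg => ?_⟩
  rw [mem_fdS, mem_cjBy, h] at hg
  obtain ⟨⟨i, j, h2⟩, h3⟩ := hθ.eq_pow_mul_pow hK.finrank_eq ho pb (Z := ψ Z) (Φ := ψ Φ)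
    (mem_fdS.1 ((fdS_suG φ).symm ▸ hΦ)) (d := d)
    (by rw [hY, map_pow, Units.val_pow_eq_pow_val]) (by rw [MulEquiv.orderOf_eq, hZ])
    (by rw [← map_mul, h5, map_mul, map_pow]) (g := ψ g) (cjBy_suG hT ▸ mem_cjBy.2 hg.2) fun x =>
      ⟨⟨_, (hg.1 x).1 x.2⟩, (cj T).injective (by
        rw [hTθ, ← cj_mul]
        change _ = cj (T * ψ g * T⁻¹) (K.val x)
        rw [← hTθ, ← cj_mul, inv_mul_cancel_right])⟩
  exact ⟨⟨i, j, ψ.injective (by rw [h2, map_mul, map_pow, map_pow])⟩,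
    ψ.injective (by simpa using h3.eq)⟩

namespace FQ.Par.OKU

variable {P : Par} [hp : Fact P.p.Prime] {α β : ZMod P.p}
  [hi : Fact (∀ r : ZMod P.p, r ^ 2 ≠ α + β * r)] (h : P.OKU α β)
include h

theorem gu_eq_iff {m m' : ℕ} (hm : P.chkU n m = true) (hm' : P.chkU n m' = true)
    (h1 : m < P.N ^ (n * n)) (h2 : m' < P.N ^ (n * n)) : h.gu hm = h.gu hm' ↔ m = m' :=
  ⟨fun e => decM_inj h1 h2 (congrArg Units.val e), fun e => by subst e; rfl⟩

theorem mpow_lt (m k : ℕ) : P.mpow n m k < P.N ^ (n * n) := by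
  cases k
  · exact pack_lt fun t _ => by cases Nat.beq _ _; exacts [N_pos, one_lt_N]
  · exact (Comp.force_eq _ fun x => P.mmul n x m).trans_lt (mmul_lt _ _ _)

theorem gu_pow_eq_one {m k : ℕ} (hm : P.chkU n m = true) :
    h.gu hm ^ k = 1 ↔ P.mpow n m k = P.mone n := by
  rw [Units.ext_iff, Units.val_pow_eq_pow_val, coe_gu, ← h.decM_mpow, Units.val_one, ← decM_mone]
  exact ⟨decM_inj (h.mpow_lt _ _) (h.mpow_lt 0 0), congrArg _⟩

theorem false_of_singer [UF F P.p] (φ : QuadraticAlgebra (ZMod P.p) α β ≃+* F) (hn : n.Prime)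
    (ho : Odd n) {H : Subgroup (GL (Fin n) F)} (hH : IsMaximalIn (suG n F P.p) H)
    {K : Subalgebra F Mat} (hK : IsFieldSubalgebra n K) (hA : IsAdjointClosedFor (hermForm n F P.p) K)
    (e : H = subalgebraNormalizer K ⊓ suG n F P.p) {z f g w d N M L v v' : ℕ}
    (hz : P.chkU n z = true) (hf : P.chkU n f = true) (hg : P.chkU n g = true)
    (hf1 : h.gu hf ∈ suG n _ P.p) (hg1 : h.gu hg ∈ suG n _ P.p)
    (hM : M = Nat.gcd (P.p ^ n + 1) (((P.p ^ 2) ^ n - 1) / (P.p ^ 2 - 1)))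
    (hN : N ∣ P.p ^ n + 1 ∧ N.Coprime (P.p ^ 2 - 1) ∧ d * N = M ∧ 0 < M)
    (h1 : P.mpow n z M = P.mone n ∧ ∀ k < M, 0 < k → P.mpow n z k ≠ P.mone n)
    (hW : (P.decM α β n (P.mpow n z d) - 1) * P.decM α β n w = 1)
    (h5 : P.mmul n f z = P.mmul n (P.mpow n z (P.p ^ 2)) f)
    (h6 : P.mmul n (P.mmul n (P.mmul n g z) (P.madj n g)) z ≠
      P.mmul n z (P.mmul n (P.mmul n g z) (P.madj n g)))
    (hL : P.chk n L z = true ∧ P.chk n L f = true ∧ P.chk n L g = true)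
    (hs : P.chkSep n L v v' = true) : False := by
  obtain ⟨H', h2, h3⟩ := exists_singer_max hn ho hH hK hA e φ (h.gu_mem hz) hf1 hN.1 hN.2.1
    (d := d) (by rw [← pow_mul, hN.2.2.1, h.gu_pow_eq_one, h1.1]) (W := P.decM α β n w)
    (by rwa [h.decM_mpow] at hW)
    (by rw [← hM, orderOf_eq_iff hN.2.2.2]; simpa only [ne_eq, h.gu_pow_eq_one] using h1)
    (Units.ext (by
      have := congrArg (P.decM α β n) h5
      rwa [h.decM_mmul, h.decM_mmul, h.decM_mpow] at this))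
  refine h.false_of_SL (by have := hn.two_le; obtain ⟨k, rfl⟩ := ho; omega) h2 (fun x hx => ?_) hs
    (h.gu_stab hg hL.2.2) hg1 fun hx => h6 (decM_inj (α := α) (β := β) (mmul_lt _ _ _)
      (mmul_lt _ _ _) ?_)
  · obtain ⟨i, j, rfl⟩ := (h3 x hx).1
    exact mul_mem (pow_mem (h.gu_stab hf hL.2.1) _) (pow_mem (h.gu_stab hz hL.1) _)
  · have h4 : P.decM α β n (P.madj n g) = ((h.gu hg)⁻¹ : GL (Fin n) _) := by
      refine (Units.eq_inv_of_mul_eq_one_right ?_)
      rw [coe_gu, ← h.decM_mmul, Nat.eq_of_beq_eq_true hg, decM_mone]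
    simp only [h.decM_mmul, h4]
    exact congrArg Units.val (h3 _ hx).2.eq

end FQ.Par.OKU

end Cfsg.Agent.Class.Asch
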