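import Cfsg.Agent.Class.Asch.SU3Norm

/-! Geometric subgroups of `SU₃(3)` and `SU₃(5)` that are not maximal. -/

set_option autoImplicit false
set_option linter.unusedSectionVars false

namespace Cfsg.Agent.Class.Asch

open Cfsg.Geo Cfsg.Agent.Class.U Cfsg.Agent.Comp
open scoped MatrixGroups Matrix

namespace FQ.Par

variable (P : Par)

/-- the matrix preserves the predicate -/
noncomputable def chkP (n m : ℕ) (pr : ℕ → Bool) : Bool :=
  allBB (Nat.pow P.N n) fun c => ite' (pr c) (force (P.act n m c) pr) true

/-- the predicate separates two vectors of the same length -/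
noncomputable def sepP (n v w : ℕ) (pr : ℕ → Bool) : Bool :=
  Nat.blt 0 v && Nat.blt 0 w && Nat.blt v (Nat.pow P.N n) && Nat.blt w (Nat.pow P.N n) &&
    pr v && !pr w && Nat.beq (P.hc n v v) (P.hc n w w)

/-- invariants of an orthogonal group -/
noncomputable def prO (A B c : ℕ) : Bool :=
  and' (Nat.beq (P.hc 3 c c) 1) (force (P.sumc 3 fun i => P.mul (P.dg c i) (P.dg c i)) fun x =>
    force (P.mul x (P.mul x x)) fun y => or' (tb A y) (and' (tb B y) (allLT 3 fun i => allLT 3 fun j =>
      Nat.beq (P.mul (P.dg c i) (P.cj (P.dg c j))) (P.mul (P.dg c j) (P.cj (P.dg c i))))))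

/-- entry `t` of a table of matrices -/
def ent (T t : ℕ) : ℕ := Nat.mod (Nat.div T (Nat.pow (Nat.pow P.N 9) t)) (Nat.pow P.N 9)

/-- the matrix with rows `v`, `x v`, `x² v` -/
noncomputable def cyc (x c : ℕ) : ℕ := force (P.act 3 x c) fun c' => force (P.act 3 x c') fun c'' =>
  P.pack 9 fun t => P.dg (cond (Nat.blt t 3) c (cond (Nat.blt t 6) c' c'')) (Nat.mod t 3)

/-- invariants of the normaliser of a Heisenberg group -/
noncomputable def prH (T A c : ℕ) : Bool :=
  and' (Nat.beq (P.hc 3 c c) 1) (allLT 27 fun t => force (P.ent T t) fun x =>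
    force (P.cyc x c) fun y => tb A (P.det3 y))

variable {P} [hp : Fact P.p.Prime] {α β : ZMod P.p}
  [hi : Fact (∀ r : ZMod P.p, r ^ 2 ≠ α + β * r)]

local notation "𝕂" => QuadraticAlgebra (ZMod (Par.p P)) α β

theorem det3_lt (m : ℕ) : P.det3 m < P.N := add_lt _ _

namespace OKU

variable (h : P.OKU α β)
include h

theorem false_of_pr {n v w m : ℕ} (hn : 3 ≤ n) {H : Subgroup (GL (Fin n) 𝕂)}
    (hH : IsMaximalIn (suG n 𝕂 P.p) H) {pr : ℕ → Bool} {S : Set (Fin n → 𝕂)}
    (hS : ∀ c, pr c = true ↔ P.decV α β n c ∈ S)
    (hle : ∀ g ∈ H, ∀ v ∈ S, (g : Matrix (Fin n) (Fin n) 𝕂) *ᵥ v ∈ S) (hu : P.chkU n m = true)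
    (hsu : h.gu hu ∈ suG n 𝕂 P.p) (hm : P.chkP n m pr = true) (hs : P.sepP n v w pr = true)
    (h3 : h.gu hu ∉ H) : False := by
  simp only [sepP, Bool.and_eq_true, Nat.blt_eq, Bool.not_eq_true', Nat.beq_eq] at hs
  obtain ⟨⟨⟨⟨⟨⟨a1, a2⟩, a3⟩, a4⟩, a5⟩, a6⟩, a7⟩ := hs
  refine false_of_maximal hH (fun g hg => mem_stabilizing (hle g hg))
    (su_not_le_stabilizing hn (fun e => a1.ne' (decV_eq_zero a3 e))
    (fun e => a2.ne' (decV_eq_zero a4 e)) (by rw [← h.dec_hc, ← h.dec_hc, a7])
    ((hS v).1 a5) (by rw [← hS, a6]; simp)) (mem_stabilizing fun x hx => ?_) hsu h3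
  obtain ⟨c, hc, rfl⟩ := exists_decV x
  have := (allBB_iff _ _).1 hm c hc
  rwa [(hS c).2 hx, ite'_true, force_eq, hS, h.decV_act] at this

theorem hc_eq_one (n c : ℕ) : Nat.beq (P.hc n c c) 1 = true ↔
    hermForm n 𝕂 P.p (P.decV α β n c) (P.decV α β n c) = 1 := by
  rw [Nat.beq_eq, ← h.dec_hc, ← dec_one]
  exact (dec_inj (sumc_lt _ _) one_lt_N).symm

theorem false_of_orth {A B v w m : ℕ} {H : Subgroup (GL (Fin 3) 𝕂)}
    (hH : IsMaximalIn (suG 3 𝕂 P.p) H) (hO : ∀ g ∈ H, ∃ ν : 𝕂,
      (g : Matrix (Fin 3) (Fin 3) 𝕂).map (conj 𝕂 P.p) = ν • (g : Matrix (Fin 3) (Fin 3) 𝕂))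
    (hu : P.chkU 3 m = true) (hd : P.det3 m = 1) (hm : P.chkP 3 m (P.prO A B) = true)
    (hs : P.sepP 3 v w (P.prO A B) = true)
    (h0 : ((P.decM α β 3 m)ᵀ * P.decM α β 3 m) 0 0 ≠ ((P.decM α β 3 m)ᵀ * P.decM α β 3 m) 1 1) :
    False := by
  have key : ∀ g ∈ H, ∃ ν : 𝕂, (g.1.map (conj 𝕂 P.p) = ν • g.1) ∧ ν • (g.1ᵀ * g.1) = 1 :=
    fun g hg => (hO g hg).imp fun ν hν => ⟨hν, by
      rw [← Matrix.mul_smul, ← hν]; exact pres_iff.1 (hH.1.le hg).1⟩
  refine h.false_of_pr le_rfl hH (S := {v | hermForm 3 𝕂 P.p v v = 1 ∧
    (tb A (enc ((v ⬝ᵥ v) ^ 3)) = true ∨ tb B (enc ((v ⬝ᵥ v) ^ 3)) = true ∧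
      (Matrix.vecMulVec v (conj 𝕂 P.p ∘ v)).IsSymm)}) (fun c => ?_) (fun g hg v hv => ?_) hu
    (h.gu_mem_su3 hu hd) hm hs fun hg => ?_
  · have e : enc ((P.decV α β 3 c ⬝ᵥ P.decV α β 3 c) ^ 3) = P.mul (P.sumc 3 fun i =>
        P.mul (P.dg c i) (P.dg c i)) (P.mul (P.sumc 3 fun i => P.mul (P.dg c i) (P.dg c i))
        (P.sumc 3 fun i => P.mul (P.dg c i) (P.dg c i))) := by
      rw [← enc_dec (α := α) (β := β) (mul_lt _ _), h.dec_mul, h.dec_mul, dec_sumc, pow_three]
      simp only [h.dec_mul]
      rfl
    simp only [prO, and'_eq_true, or'_eq_true, force_eq, h.hc_eq_one, Set.mem_ofPred_eq, e, allLT_iff,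
      Nat.beq_eq, ← dec_inj (α := α) (β := β) (mul_lt _ _) (mul_lt _ _), h.dec_mul, h.dec_cj',
      Matrix.IsSymm.ext_iff]
    exact and_congr_right fun _ => or_congr_right (and_congr_right fun _ =>
      ⟨fun e i j => e j j.2 i i.2, fun e j hj i hi => e ⟨i, hi⟩ ⟨j, hj⟩⟩)
  · obtain ⟨ν, h1, h2⟩ := key g hg
    have h3 := congrArg Matrix.det h2
    rw [Matrix.det_smul, Matrix.det_mul, Matrix.det_transpose, mem_specialLinear.1 (hH.1.le hg).2,
      Matrix.det_one, Fintype.card_fin, mul_one, mul_one] at h3
    have h4 : (g.1 *ᵥ v ⬝ᵥ g.1 *ᵥ v) ^ 3 = (v ⬝ᵥ v) ^ 3 := by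
      rw [← one_mul (_ ^ 3), ← h3, ← mul_pow, Matrix.dotProduct_mulVec, Matrix.vecMul_mulVec,
        ← smul_eq_mul, ← smul_dotProduct, ← Matrix.vecMul_smul, h2, Matrix.vecMul_one]
    refine ⟨((hH.1.le hg).1 v v).trans hv.1, hv.2.imp (h4 ▸ id) (.imp (h4 ▸ id) fun h5 => ?_)⟩
    have h6 : conj 𝕂 P.p ∘ (g.1 *ᵥ v) = ν • g.1 *ᵥ (conj 𝕂 P.p ∘ v) := by
      rw [← Matrix.smul_mulVec, ← h1]; ext1 i; exact RingHom.map_mulVec _ _ _ _
    rw [h6, Matrix.vecMulVec_smul, ← Matrix.vecMul_transpose _ (_ ∘ _), ← Matrix.vecMulVec_mul,
      ← Matrix.mul_vecMulVec]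
    refine Matrix.IsSymm.smul ?_ _
    rw [Matrix.IsSymm, Matrix.transpose_mul, Matrix.transpose_mul, h5, Matrix.transpose_transpose,
      mul_assoc]
  · obtain ⟨ν, -, h2⟩ := key _ hg
    have h3 := (congrFun (congrFun h2 0) 0).trans (congrFun (congrFun h2 1) 1).symm
    exact h0 (mul_left_cancel₀ (by rintro rfl; simp at h2) h3)

theorem dec_cyc (x c : ℕ) : P.decM α β 3 (P.cyc x c) = Matrix.of ![P.decV α β 3 c,
    P.decM α β 3 x *ᵥ P.decV α β 3 c, P.decM α β 3 x *ᵥ P.decM α β 3 x *ᵥ P.decV α β 3 c] := by
  ext1 i j
  rw [← h.decV_act, ← h.decV_act, cyc, force_eq, force_eq, decM, Matrix.of_apply,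
    dg_pack (fun _ _ => dg_lt _ _) (by omega)]
  fin_cases i <;> fin_cases j <;> rfl

theorem false_of_heis {T A v w m : ℕ} {H : Subgroup (GL (Fin 3) 𝕂)}
    (hH : IsMaximalIn (suG 3 𝕂 P.p) H) {f : Fin 27 → GL (Fin 3) 𝕂}
    (hf : ∀ t, (f t).1 = P.decM α β 3 (P.ent T t)) (hN : ∀ g ∈ H, ∀ t, ∃ t', f t * g = g * f t')
    (hu : P.chkU 3 m = true) (hd : P.det3 m = 1) (hm : P.chkP 3 m (P.prH T A) = true)
    (hs : P.sepP 3 v w (P.prH T A) = true)
    (h0 : ∀ t < 27, P.mmul 3 (P.ent T 1) m ≠ P.mmul 3 m (P.ent T t)) : False := by
  refine h.false_of_pr le_rfl hH (S := {v | hermForm 3 𝕂 P.p v v = 1 ∧ ∀ t, tb A (enc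
    (Matrix.of ![v, (f t).1 *ᵥ v, (f t).1 *ᵥ (f t).1 *ᵥ v]).det) = true}) (fun c => ?_)
    (fun g hg v hv => ⟨((hH.1.le hg).1 v v).trans hv.1, fun t => ?_⟩) hu
    (h.gu_mem_su3 hu hd) hm hs fun hg => ?_
  · simp only [prH, and'_eq_true, force_eq, h.hc_eq_one, Set.mem_ofPred_eq, allLT_iff, hf,
      ← h.dec_cyc, h.det_decM, enc_dec (det3_lt _)]
    exact and_congr_right fun _ => ⟨fun e t => e t t.2, fun e t ht => e ⟨t, ht⟩⟩
  · obtain ⟨t', e⟩ := hN g hg t
    have e' : ∀ v, (f t).1 *ᵥ g.1 *ᵥ v = g.1 *ᵥ (f t').1 *ᵥ v := fun v => by
      rw [Matrix.mulVec_mulVec, Matrix.mulVec_mulVec, ← Units.val_mul, e, Units.val_mul]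
    convert hv.2 t' using 3
    rw [e', e', ← mul_one (Matrix.det (Matrix.of ![v, _, _])), ← mem_specialLinear.1 (hH.1.le hg).2,
      ← Matrix.det_transpose g.1, ← Matrix.det_mul]
    congr 1
    ext1 i j
    fin_cases i <;> exact dotProduct_comm (g.1 j) _
  · obtain ⟨t, e⟩ := hN _ hg 1
    refine h0 t t.2 (decM_inj (α := α) (β := β) (mmul_lt _ _ _) (mmul_lt _ _ _) ?_)
    rw [h.decM_mmul, h.decM_mmul, ← hf]
    exact (congrArg (· * _) (hf 1).symm).trans (congrArg Units.val e)

end OKU

end FQ.Par

open FQ

variable {F : Type*} [Field F] [Fintype F]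

theorem su3_frame_five [UF F 5] (hF : Fintype.card F = 5 ^ 2) {H : Subgroup (GL (Fin 3) F)}
    (hH : IsMaximalIn (suG 3 F 5) H) {D : Fin 3 → Submodule F (Fin 3 → F)}
    (hD : IsNondegenerateMDecomposition (hermForm 3 F 5) 1 D)
    (h : H = decompositionStabilizer D ⊓ suG 3 F 5) : False := by
  obtain ⟨H', h1, h2⟩ := exists_mono_max le_rfl hH hD h (Or.inl rfl) (ringEquivGF25 hF).symm
  exact ok25.false_of_mono (κ := 1) (v := 1) (w := 4425) (m := 483194596353)
    (L := 0x140000000000000000200040200200000006010400000002500004000000040001000000240410000000060000000200040000000000000005000040040002200004040002020000440000000000000002000200010800000000000000000000000000000000000000010004000000000000000000000000000800200000000004200200020000000000000000000000000000000000000000000000000000010800400100000000000000000000000000000000000000010001000000000000000000000000000800080000000100040001080000000000000000000000000000000000000000000000200040000000000000020200200008020020000000900880000000180000000000060088000000024200200000000020200000000000000008001040001000820000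1400000a00001040000000002002000000000000002000080000001000000800000000000000000100000000000040000000000000000008000002000080000000000000080080000000200000000000600000300000001948200000060000000000000200200000000800000400000000000000000080000000000020000000000000000004000000200200000000000000000001800000100000040001020000800000000ca41001040000000000000000000090000000000001000040000006000000000000000000000000640001000000000000000000090000000000000041000000000080080004400002200010010000000040000240000000000000088000000000000000000006080080000000000000000000008008000000180000000000000088000000000000000000009000000200008004100002080040001000000030000400000000000000000018000001000000800000000000000000100000000000040000000000000000008000000000018000000000000400010000000200000010010008008000000001948200000001000401000100000000000000000000000000000000000000000210000000000000000000000000000010800000000400040100040000000000000000000000000000000000000000000004000100000000000000000006000000400000200000000000000000040000000000010000000000000000002000000000006000000000000100004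0000000800000040040020020000000006520800000240000000000000088000000000000000000006080080000000000000000000008008000000180000000000000088000000000000000000009000000200008004100002080040001000000020410000000000000000000024000000000000400010000001800000000000000000000000190000400000000000000000024000000000000010400000000020020001100000880004004000000010000060000000000000200200000000800000400000000000000000080000000000020000000000000000004000000200200000000000000000001800000100000040001020000800000000ca41000000008002008000800000000000000000000000000000000000000001080000000000000000000000000000084000000002000200800200000000000000000000000000000000000000000000002000400000000000000202002000080200200000009008800000001800000000000600880000000242002000000000202000000000000000080010400010008200001400000a00001040000000000000000042001000400000000000000000000000000000000000000040004000000000000000000000000002000200000000400100004200000000000000000000000000000000000000000000000000002000200010800000000000000000000000000000000000000010004000000000000000000000000000800200000000004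2002000200000000000000000000000000000000000000000000000500000000000000000800100800800000018041000000009400010000000100004000000901040000000180000000800100000000000000014000100100008800010100008080001100000000004004000000000000004000100000002000001000000000000000000200000000000080000000000000000010000004000100000000000000100100000000400000000000c00000600000003290400220000000000000000082000000000000000080080200008000000000000000000020000802002000000000000000082000000000000000008800000000000000c00000900000480000180000010404000000000000000014000000006400010004400004100010010000000004004000410000110004000100000000014000000000000000010100000000c0000090400080200040000012000000020200000000000000000a00000000320000800220000208000800800000000200200020800008800200008000000000a00000000000000000808000000060000048200040100020000009000000004400000000000000001040000000000000001001004000100000000000000000000400010040040000000000000001040000000000000000110000000000000018000012000009000003000000200000000000000000000000001948200ca410000000400000219482000000006520800000020000010ca410000000000000000000000000000000003290400000010000000000000000002063012)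
    (R := 0x20000000000000000000000000000000000000000000000000000000000000000000000000000000000000000000000000000000000000000000000000000000000000000000000000000000000000000000000000000000000000000000000000000000000000000000000000000000000000000000000000000000000000000000000000000000000000000000000000000000000020000000000008000000000000000000000000000000000000000000000000000000000000000000000000000000000000000000000000000000000000000000000000000000000000000000000000000000000000000000000000000000000000000000000000000000000000000000000000000000000000000000000000000000000000000000000000000000000000000000000000000000000008000004000000)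
    le_rfl h1 h2 (by decide +kernel) (by decide +kernel) (by decide +kernel) (by decide +kernel)
    (ok25.gu_mem_su3 _ (by decide +kernel)) (by decide +kernel) (by decide +kernel)

theorem su3_orth {q : ℕ} [UF F q] (hq : q = 3 ∨ q = 5) {H : Subgroup (GL (Fin 3) F)}
    (hH : IsMaximalIn (suG 3 F q) H) {F₀ : Subfield F} {P : GL (Fin 3) F}
    (hc : Fintype.card F = Nat.card F₀ ^ 2) (hP : IsFormRationalStructure (hermForm 3 F q) F₀ 1 P)
    (h : H = subfieldSubgroup F₀ P ⊓ suG 3 F q) : False := by
  rcases hq with rfl | rfl
  · have : UF GF9 3 := Par.instUF (P := P9)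
    obtain ⟨H', h1, h2⟩ := exists_orth_max (by decide) (by decide) hH hc hP h
      (ringEquivGF9 (card_of_UF (q := 3))).symm
    exact ok9.false_of_orth (A := 6) (B := 0) (v := 81) (w := 360) (m := 14703203) h1 h2
      (by decide +kernel) (by decide +kernel) (by decide +kernel) (by decide +kernel)
      (by decide +kernel)
  · have : UF GF25 5 := Par.instUF (P := P25)
    obtain ⟨H', h1, h2⟩ := exists_orth_max (by decide) (by decide) hH hc hP h
      (ringEquivGF25 (card_of_UF (q := 5))).symm
    exact ok25.false_of_orth (A := 21) (B := 2) (v := 625) (w := 4425) (m := 73408203129) h1 h2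
      (by decide +kernel) (by decide +kernel) (by decide +kernel) (by decide +kernel)
      (by decide +kernel)

/-- the elements of the Heisenberg group -/
def heisTable : ℕ := 0x88578206a0e8c81a5bc790b672331aa2b2aabb91ed956b88de66790f34dcdafb24d22693d4dee24a5a2104392a9bb72c1ce6a18b200564d09cc860047dd2060347cef59013328bb7b82a6361a12e40c2ad10be1dba13df471dc33d485379f4299bcc10347286ff91d01db978393c1e4dbaa7f0638e4294d1f63748b13e35942fb6d7860057bf3f8edcca85a

theorem su3_heis_five [UF F 5] {H R : Subgroup (GL (Fin 3) F)} (hH : IsMaximalIn (suG 3 F 5) H)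
    (hR : UExtra (hermForm 3 F 5) H R 3 1) (hc : Nat.card R = 27) : False := by
  let X := ok25.gu (n := 3) (m := 2593998828126) (by decide +kernel)
  let Y := ok25.gu (n := 3) (m := 6103531875) (by decide +kernel)
  let f : Fin 27 → GL (Fin 3) _ := fun t =>
    (X * Y * (X * X * (Y * Y))) ^ (t.1 / 9) * (X ^ (t.1 / 3 % 3) * Y ^ (t.1 % 3))
  have hf : ∀ t, (f t).1 = P25.decM 2 0 3 (P25.ent heisTable t) := fun t => by
    simp only [f, X, Y, Units.val_mul, Units.val_pow_eq_pow_val, Par.OKU.coe_gu, ← ok25.decM_mmul,
      ← ok25.decM_mpow]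
    congr 1
    revert t
    decide +kernel
  have hX : X ∈ Subgroup.closure {X, Y} := Subgroup.subset_closure (by simp)
  have hY : Y ∈ Subgroup.closure {X, Y} := Subgroup.subset_closure (by simp)
  obtain ⟨H', h1, h2⟩ := exists_heis_max hH hR hc (ringEquivGF25 (card_of_UF (q := 5))).symm
    (a := P25.dec 2 0 12) (by decide +kernel) (X := X) (Y := Y) (by decide +kernel)
    (by decide +kernel) (f := f) (fun t t' e => by
      have := Par.decM_inj (n := 3) (Nat.mod_lt _ (by decide)) (Nat.mod_lt _ (by decide))
        ((hf t).symm.trans ((congrArg Units.val e).trans (hf t')))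
      revert t t'
      exact fun t t' _ => (by decide +kernel : ∀ t t' : Fin 27,
        P25.ent heisTable t = P25.ent heisTable t' → t = t') t t')
    fun t => by apply_rules [mul_mem, pow_mem]
  exact ok25.false_of_heis (A := 0x100033) (v := 10125) (w := 625) (m := 330605893176) h1 hf h2
    (by decide +kernel) (by decide +kernel) (by decide +kernel) (by decide +kernel)
    (by decide +kernel)

end Cfsg.Agent.Class.Asch
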