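import Cfsg.Agent.Class.Asch.UCases

/-! Geometric subgroups of `SU` lying in symplectic subfield subgroups: totally isotropic pairs in
`SU₄(q)`, `q ≤ 3`. -/

set_option autoImplicit false
set_option linter.unusedSectionVars false

namespace Cfsg.Agent.Class.Asch

open Cfsg.Geo Cfsg.Agent.Class.U
open scoped MatrixGroups Matrix

variable {F : Type*} [Field F] {q n : ℕ} [hU : UF F q]

local notation "𝐡" => hermForm n F q
local notation "σ" => conj F q

theorem false_of_symp (hn : 3 ≤ n) (h32 : ¬ (n = 3 ∧ q = 2)) {H : Subgroup (GL (Fin n) F)}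
    (hH : IsMaximalIn (suG n F q) H) {f : (Fin n → F) → (Fin n → F) → F} (hf : IsSymplecticForm f)
    (hle : H ≤ similarityGroup f) {v : Fin n → F} {l : F} (hv : ∀ x, 𝐡 x v = l * f x v)
    (hnot : ∀ c h, c ≠ 0 → utv (q := q) v c h ∉ H) : False := by
  obtain ⟨c, hc0, hc⟩ := exists_trace_zero F q
  have h0 : 𝐡 v v = 0 := by rw [hv, hf.alternating, mul_zero]
  refine false_of_maximal hH hle (su_not_le_similarity hn h32 hf.bilinear hf.nondegenerate)
    ⟨1, fun x y => ?_⟩ (utv_mem (tv_cond h0 hc) h0) (hnot c _ hc0)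
  simp only [utv_mulVec, hf.bilinear.add_left, hf.bilinear.add_right, hf.bilinear.smul_left,
    hf.bilinear.smul_right, hv, hf.alternating, hf.skew v y, Units.val_one]
  ring

theorem exists_dual_blocks {m : ℕ} {D : Fin 2 → Submodule F (Fin n → F)}
    (hD : IsMDecomposition m D) (hti : ∀ i, IsTotallySingularFor 𝐡 (D i)) :
    ∃ (e : Fin n ≃ Fin m × Fin 2) (B : GL (Fin n) F), IsBlocks D e B ∧
      pull e B 𝐡 = formOfGram (Max.conjEquiv F q) (bm (Equiv.swap 0 1) fun _ => 1) := by
  let b0 := Module.finBasisOfFinrankEq F (D 0) (hD.finrank_eq 0)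
  let L : D 1 →ₗ[F] (Fin m → F) :=
    { toFun := fun w a => 𝐡 w (b0 a)
      map_add' := fun x y => funext fun a => herm_add_left _ _ _
      map_smul' := fun c x => funext fun a => herm_smul_left _ _ _ }
  have hinj : Function.Injective L := by
    rw [← LinearMap.ker_eq_bot, eq_bot_iff]
    intro w hw
    refine Subtype.ext (eq_zero_of_herm_left (q := q) fun v => ?_)
    have hv : v ∈ ⨆ i, D i := hD.iSup_eq_top ▸ Submodule.mem_top
    refine Submodule.iSup_induction (motive := fun v => 𝐡 w v = 0) _ hv (fun i x hx => ?_)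
      (herm_zero_right _) fun x y hx hy => by rw [herm_add_right, hx, hy, add_zero]
    fin_cases i
    · have := congrArg Subtype.val (b0.sum_repr ⟨x, hx⟩)
      simp only [AddSubmonoidClass.coe_finsetSum, SetLike.val_smul] at this
      rw [← this, fc_herm.sesq.sum_right]
      refine Finset.sum_eq_zero fun a _ => ?_
      rw [herm_smul_right, show 𝐡 w (b0 a) = 0 from congrFun hw a, mul_zero]
    · exact hti 1 _ w.2 _ hx
  let b1 := Module.Basis.ofEquivFun (LinearEquiv.ofBijective L ⟨hinj,
    (LinearMap.injective_iff_surjective_of_finrank_eq_finrank (by simp [hD.finrank_eq])).1 hinj⟩)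
  have hb : ∀ c a, 𝐡 (b1 c) (b0 a) = if c = a then 1 else 0 := fun c a => by
    have := congrFun (b1.equivFun_apply (b1 c)) a
    rw [Module.Basis.equivFun_ofEquivFun, Module.Basis.repr_self, Finsupp.single_apply] at this
    exact this
  obtain ⟨e, B, h1, h2⟩ := IsMDecomposition.exists_blocks_of_basis hD
    (Fin.cons b0 (Fin.cons b1 finZeroElim) : ∀ j, Module.Basis (Fin m) F (D j))
  refine ⟨e, B, h1, (fc_herm.pull e B).sesq.eq_frm.trans ?_⟩
  congr 1
  ext ⟨a, i⟩ ⟨c, j⟩
  simp only [gramMatrix, pull, h2, bm, Matrix.of_apply, Matrix.one_apply]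
  fin_cases i <;> fin_cases j
  · exact hti 0 _ (Subtype.mem _) _ (Subtype.mem _)
  · refine (herm_conj _ _).symm.trans ((congrArg σ (hb c a)).trans ?_)
    simp [apply_ite σ, eq_comm]
  · exact hb a c
  · exact hti 1 _ (Subtype.mem _) _ (Subtype.mem _)

omit hU in
theorem bm_inj {α τ : Type} [Fintype α] [DecidableEq α] [Fintype τ] [DecidableEq τ]
    {π : Equiv.Perm τ} {gs hs : τ → Matrix α α F} (h : bm π gs = bm π hs) (j : τ) :
    gs j = hs j := by
  ext a b
  simpa [bm] using congrFun (congrFun h (a, π j)) (b, j)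

theorem su4_ti_case {H : Subgroup (GL (Fin 4) F)} (hH : IsMaximalIn (suG 4 F q) H)
    {D : Fin 2 → Submodule F (Fin 4 → F)} (hD : IsMDecomposition 2 D)
    (hti : ∀ i, IsTotallySingularFor (hermForm 4 F q) (D i))
    (h : H = decompositionStabilizer D ⊓ suG 4 F q) : 4 ≤ q := by
  by_contra hq
  obtain ⟨e, B, hB, hG⟩ := exists_dual_blocks hD hti
  obtain ⟨a, ha⟩ := exists_norm_eq (F := F) (q := q) (μ := -1) (by simp)
  refine false_of_symp (by norm_num) (by omega) hH
    (trForm_symplectic e B (isSymplecticForm_blockJ (Fin 2))) (fun g hg => ?_)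
    (v := trV e B (Pi.single (0, 0) 1 + Pi.single (1, 1) a)) (l := -σ a) (fun x => ?_)
    fun c hc hc0 hg => ?_
  · rw [h] at hg
    obtain ⟨π, gs, rfl⟩ := hB.exists_bmGL hg.1
    have hd := trGL_mem_specialLinear.1 hg.2.2
    have hs : ((Equiv.Perm.sign π : ℤ) : F) ^ 2 = 1 := by
      rcases Int.units_eq_one_or (Equiv.Perm.sign π) with h | h <;> simp [h]
    rw [coe_bmGL, det_bm, Fintype.card_fin, hs, one_mul, Fin.prod_univ_two] at hd
    have h1 := (trGL_mem_isoG_iff e B).1 hg.2.1
    rw [mem_isoG, hG, fixes_frm_iff, coe_bmGL, bm_transpose, bm_map, bm_mul, bm_mul] at h1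
    have h2 := (by decide : ∀ π : Equiv.Perm (Fin 2), π⁻¹ * Equiv.swap 0 1 * π = Equiv.swap 0 1) π
    have h3 : π⁻¹ (Equiv.swap 0 1 (π 1)) = 0 := DFunLike.congr_fun h2 1
    rw [h2] at h1
    have h4 := congrArg Matrix.det (bm_inj h1 1)
    rw [h3, mul_one, Matrix.det_mul, Matrix.det_transpose, Matrix.det_one] at h4
    replace h4 := (congrArg _ ((Max.conjEquiv F q).toRingHom.map_det _)).trans h4
    have h0 := (Matrix.isUnits_det_units (gs 0)).ne_zero
    have h5 := (conj_eq_self_iff (Matrix.isUnits_det_units (gs 1)).ne_zero).1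
      (mul_left_cancel₀ h0 (h4.trans hd.symm))
    have h6 : (gs 1 : Matrix (Fin 2) (Fin 2) F).det ^ 2 = 1 := by
      have := two_le_q F q
      rcases (by omega : q = 2 ∨ q = 3) with rfl | rfl
      · rw [show (gs 1 : Matrix (Fin 2) (Fin 2) F).det = 1 by simpa using h5, one_pow]
      · exact h5
    have h7 : (gs 0 : Matrix (Fin 2) (Fin 2) F).det = (gs 1 : Matrix (Fin 2) (Fin 2) F).det := by
      linear_combination (gs 1 : Matrix (Fin 2) (Fin 2) F).det * hd -
        (gs 0 : Matrix (Fin 2) (Fin 2) F).det * h6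
    refine IsBlocks.mem_similarity e B _ _ π gs h0 fun j => ?_
    fin_cases j
    · exact J2_conj _
    · rw [h7]; exact J2_conj _
  · obtain ⟨x, rfl⟩ := trV_surjective e B x
    rw [trForm_trV]
    refine (congrFun (congrFun hG x) _).trans ?_
    have : Max.conjEquiv F q a = σ a := rfl
    simp [formOfGram, Fintype.sum_prod_type, bm, J2, Matrix.blockDiagonal_apply', Matrix.one_apply,
      this]
    linear_combination x (0, 1) * ha
  · rw [h] at hg
    refine not_mem_decompositionStabilizer ((hB 0 _).2 ⟨Pi.single 1 1, rfl⟩) (fun j hj => ?_) hg.1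
    obtain ⟨x, hx⟩ := (hB j _).1 hj
    have h1 : hermForm 4 F q (trV e B (tens (Pi.single 1 1) (Pi.single 0 1)))
        (trV e B (Pi.single (0, 0) 1 + Pi.single (1, 1) a)) = σ a := by
      refine (congrFun (congrFun hG _) _).trans ?_
      simp [formOfGram, Fintype.sum_prod_type, bm, Matrix.one_apply, tens]
      rfl
    rw [utv_mulVec, h1, ← trV_smul, ← trV_add] at hx
    have h2 := congrFun (trV_injective e B hx) (1, j + 1)
    have ha0 : a ≠ 0 := by rintro rfl; simp at ha
    fin_cases j <;> simp [tens, hc0, ha0] at h2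

end Cfsg.Agent.Class.Asch
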