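import Cfsg.Agent.Class.Asch.UProp
import Cfsg.Agent.Class.Asch.SLCases
import Cfsg.Agent.Class.FieldTransport

/-! Case lemmas for maximal subgroups of `SU` in small dimension. -/

set_option autoImplicit false
set_option linter.unusedSectionVars false

namespace Cfsg.Agent.Class.Asch

open Cfsg.Geo Cfsg.Agent.Class.U
open scoped MatrixGroups Matrix Kronecker commutatorElement

variable {F : Type*} [Field F] {q n : ℕ}

local notation "𝐡" => hermForm n F q
local notation "σ" => conj F q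

/-! ### Class 6 -/

section c6

variable [Fintype F] {ι : Type} [Fintype ι] [DecidableEq ι] {f : (ι → F) → (ι → F) → F}
  {H R : Subgroup (GL ι F)} {r k : ℕ}

theorem UExtra.odd (hF : Fintype.card F = q ^ 2) (h : UExtra f H R r k) (hr : Odd r) :
    Nat.card (Subgroup.center R) = r ∧ Nat.card R = r ^ (2 * k + 1) ∧ ∃ p e, p.Prime ∧ CharP F p ∧
      q = p ^ e ∧ 0 < e ∧ 2 * e < r ∧ p % r ≠ 0 ∧ (p % r) ^ (2 * e) % r = 1 % r ∧
      ∀ d, 0 < d → d < 2 * e → (p % r) ^ d % r ≠ 1 % r := by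
  obtain ⟨p, e, hrp, hmin, ⟨-, hz⟩ | ⟨rfl, -⟩⟩ := h.field
  swap
  · exact absurd hr (by decide)
  refine ⟨hz, by rw [h.props.2.2.2.2.2.2, hz, pow_succ'], ?_⟩
  rw [hz] at hmin
  obtain ⟨he0, h1, h2⟩ := minimal_mod hmin
  have hr' := h.props.1.prime
  have hp := hmin.1
  have h0 : ¬ r ∣ p := fun hd => hrp ((Nat.prime_dvd_prime_iff_eq hr' hp).1 hd)
  have h3 : q ^ 2 = p ^ e := hF.symm.trans hmin.2.2.1
  obtain ⟨d, -, hd⟩ := (Nat.dvd_prime_pow hp).1 (h3 ▸ dvd_pow_self q two_ne_zero)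
  obtain rfl : e = 2 * d := by
    rw [hd, ← pow_mul] at h3
    rw [← Nat.pow_right_injective hp.two_le h3, mul_comm]
  refine ⟨p, d, hp, hmin.2.1, hd, by omega, ?_, fun h' => h0 (Nat.dvd_of_mod_eq_zero h'), h1, h2⟩
  by_contra hlt
  have h3 := hr'.two_le
  refine h2 (r - 1) (by omega) (by omega) ?_
  rw [← Nat.pow_mod]
  have := Nat.ModEq.pow_totient ((Nat.Prime.coprime_iff_not_dvd hr').2 h0).symm
  rwa [Nat.totient_prime hr'] at this

theorem UExtra.two (hF : Fintype.card F = q ^ 2) (h : UExtra f H R 2 k) :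
    Nat.card (Subgroup.center R) = 4 ∧ Nat.card R = 2 ^ (2 * k + 2) ∧
      ∃ p, p.Prime ∧ q = p ∧ p % 4 = 3 := by
  obtain ⟨p, e, hrp, hmin, ⟨h', -⟩ | ⟨-, rfl, hz⟩⟩ := h.field
  · exact absurd h' (by decide)
  refine ⟨hz, by rw [h.props.2.2.2.2.2.2, hz]; ring, p, hmin.1,
    Nat.pow_left_injective two_ne_zero (hF.symm.trans hmin.2.2.1), ?_⟩
  rw [hz] at hmin
  obtain ⟨-, h1, h2⟩ := minimal_mod hmin
  have := h2 1 one_pos one_lt_two
  have hs : p % 4 < 4 := Nat.mod_lt _ (by norm_num)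
  generalize p % 4 = s at *
  interval_cases s <;> simp_all

theorem UExtra.three (hF : Fintype.card F = q ^ 2) (h : UExtra f H R 3 k) :
    Nat.card (Subgroup.center R) = 3 ∧ Nat.card R = 3 ^ (2 * k + 1) ∧
      ∃ p, p.Prime ∧ q = p ∧ p % 3 = 2 := by
  obtain ⟨h1, h2, p, e, hp, -, hq, he, he', h0, h3, h4⟩ := h.odd hF (by decide)
  obtain rfl : e = 1 := by omega
  have := h4 1 one_pos one_lt_two
  rw [pow_one] at this
  exact ⟨h1, h2, p, hp, by simpa using hq, by omega⟩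

theorem UExtra.five (hF : Fintype.card F = q ^ 2) (h : UExtra f H R 5 k) :
    Nat.card (Subgroup.center R) = 5 ∧ Nat.card R = 5 ^ (2 * k + 1) ∧ ∃ p, p.Prime ∧ CharP F p ∧
      ((q = p ∧ p % 5 = 4) ∨ (q = p ^ 2 ∧ (p % 5 = 2 ∨ p % 5 = 3))) := by
  obtain ⟨h1, h2, p, e, hp, hc, hq, he, he', h0, h3, h4⟩ := h.odd hF (by decide)
  refine ⟨h1, h2, p, hp, hc, ?_⟩
  have hs : p % 5 < 5 := Nat.mod_lt _ (by norm_num)
  have := h4 1 one_pos (by omega)
  rcases (by omega : e = 1 ∨ e = 2) with rfl | rfl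
  · refine Or.inl ⟨by simpa using hq, ?_⟩
    generalize p % 5 = s at *
    interval_cases s <;> simp_all
  · refine Or.inr ⟨hq, ?_⟩
    have := h4 2 (by norm_num) (by norm_num)
    generalize p % 5 = s at *
    interval_cases s <;> simp_all

theorem UExtra.seven (hF : Fintype.card F = q ^ 2) (h : UExtra f H R 7 k) :
    Nat.card (Subgroup.center R) = 7 ∧ Nat.card R = 7 ^ (2 * k + 1) ∧ ∃ p, p.Prime ∧ CharP F p ∧
      ((q = p ∧ p % 7 = 6) ∨ (q = p ^ 3 ∧ (p % 7 = 3 ∨ p % 7 = 5))) := by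
  obtain ⟨h1, h2, p, e, hp, hc, hq, he, he', h0, h3, h4⟩ := h.odd hF (by decide)
  refine ⟨h1, h2, p, hp, hc, ?_⟩
  have hs : p % 7 < 7 := Nat.mod_lt _ (by norm_num)
  have := h4 1 one_pos (by omega)
  rcases (by omega : e = 1 ∨ e = 2 ∨ e = 3) with rfl | rfl | rfl
  · refine Or.inl ⟨by simpa using hq, ?_⟩
    generalize p % 7 = s at *
    interval_cases s <;> simp_all
  · have := h4 2 (by norm_num) (by norm_num)
    generalize p % 7 = s at *
    interval_cases s <;> simp_all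
  · refine Or.inr ⟨hq, ?_⟩
    have := h4 2 (by norm_num) (by norm_num)
    have := h4 3 (by norm_num) (by norm_num)
    generalize p % 7 = s at *
    interval_cases s <;> simp_all

theorem UExtra.eleven (hF : Fintype.card F = q ^ 2) (h : UExtra f H R 11 k) :
    Nat.card (Subgroup.center R) = 11 ∧ Nat.card R = 11 ^ (2 * k + 1) ∧ ∃ p, p.Prime ∧ CharP F p ∧
      ((q = p ∧ p % 11 = 10) ∨
        (q = p ^ 5 ∧ (p % 11 = 2 ∨ p % 11 = 6 ∨ p % 11 = 7 ∨ p % 11 = 8))) := by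
  obtain ⟨h1, h2, p, e, hp, hc, hq, he, he', h0, h3, h4⟩ := h.odd hF (by decide)
  refine ⟨h1, h2, p, hp, hc, ?_⟩
  have hs : p % 11 < 11 := Nat.mod_lt _ (by norm_num)
  have := h4 1 one_pos (by omega)
  rcases (by omega : e = 1 ∨ e = 5 ∨ e = 2 ∨ e = 3 ∨ e = 4) with rfl | rfl | rfl | rfl | rfl
  · refine Or.inl ⟨by simpa using hq, ?_⟩
    generalize p % 11 = s at *
    interval_cases s <;> simp_all
  · refine Or.inr ⟨hq, ?_⟩
    have := h4 2 (by norm_num) (by norm_num)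
    have := h4 5 (by norm_num) (by norm_num)
    generalize p % 11 = s at *
    interval_cases s <;> simp_all
  all_goals
    have := h4 2 (by norm_num) (by norm_num)
    generalize p % 11 = s at *
    interval_cases s <;> simp_all

theorem UExtra.le_sim (h : UExtra f H R r k) : R ≤ similarityGroup f :=
  h.props.2.2.1.trans (isoG_le_sim f)

end c6

/-! ### Change of coordinates -/

theorem isMaximalIn_comap {G G' : Type*} [Group G] [Group G'] (Φ : G' ≃* G) {Ω H : Subgroup G}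
    (hH : IsMaximalIn Ω H) : IsMaximalIn (Ω.comap Φ.toMonoidHom) (H.comap Φ.toMonoidHom) := by
  refine ⟨(Subgroup.comap_lt_comap_of_surjective Φ.surjective).2 hH.1, fun M h1 h2 => ?_⟩
  have h3 : (M.map Φ.toMonoidHom).comap Φ.toMonoidHom = M :=
    Subgroup.comap_map_eq_self_of_injective Φ.injective M
  rw [← h3] at h1 h2 ⊢
  rw [Subgroup.comap_le_comap_of_surjective Φ.surjective] at h1 h2
  exact (hH.2 _ h1 h2).imp (congrArg _) (congrArg _)

/-- The subgroup `T⁻¹ H T`. -/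
def cjBy (T : GL (Fin n) F) (H : Subgroup (GL (Fin n) F)) : Subgroup (GL (Fin n) F) :=
  H.comap (MulAut.conj T).toMonoidHom

theorem mem_cjBy {T g : GL (Fin n) F} {H : Subgroup (GL (Fin n) F)} :
    g ∈ cjBy T H ↔ T * g * T⁻¹ ∈ H := Iff.rfl

theorem cjBy_suG {T : GL (Fin n) F} (hT : T ∈ GU n F q) : cjBy T (suG n F q) = suG n F q := by
  ext g
  refine ⟨fun h => ?_, conj_mem_suG hT⟩
  simpa [mul_assoc] using conj_mem_suG (inv_mem hT) h

theorem isMaximalIn_cjBy {T : GL (Fin n) F} (hT : T ∈ GU n F q) {H : Subgroup (GL (Fin n) F)}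
    (hH : IsMaximalIn (suG n F q) H) : IsMaximalIn (suG n F q) (cjBy T H) := by
  conv_lhs => rw [← cjBy_suG hT]
  exact isMaximalIn_comap _ hH

/-- The subgroup over an isomorphic field. -/
def fdS {K : Type*} [Field K] (φ : K ≃+* F) (H : Subgroup (GL (Fin n) F)) :
    Subgroup (GL (Fin n) K) := H.comap (glCongr (Fin n) φ).toMonoidHom

theorem mem_fdS {K : Type*} [Field K] {φ : K ≃+* F} {H : Subgroup (GL (Fin n) F)}
    {g : GL (Fin n) K} : g ∈ fdS φ H ↔ glCongr (Fin n) φ g ∈ H := Iff.rfl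

theorem coe_glCongr {K : Type*} [Field K] (φ : K ≃+* F) (g : GL (Fin n) K) :
    (glCongr (Fin n) φ g : Matrix (Fin n) (Fin n) F) = (g : Matrix (Fin n) (Fin n) K).map φ := rfl

theorem glCongr_mulVec {K : Type*} [Field K] (φ : K ≃+* F) (g : GL (Fin n) K) (v : Fin n → K) :
    (glCongr (Fin n) φ g : Matrix (Fin n) (Fin n) F) *ᵥ (φ ∘ v) =
      φ ∘ ((g : Matrix (Fin n) (Fin n) K) *ᵥ v) := by
  ext i; simp [Matrix.mulVec, dotProduct]

theorem fdS_GU {K : Type*} [Field K] (φ : K ≃+* F) : fdS φ (GU n F q) = GU n K q := by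
  ext g
  refine ⟨fun h u v => φ.injective ?_, fun h u v => ?_⟩
  · have := h (φ ∘ u) (φ ∘ v)
    change hermForm n F q ((glCongr (Fin n) φ g : Matrix (Fin n) (Fin n) F) *ᵥ _)
      ((glCongr (Fin n) φ g : Matrix (Fin n) (Fin n) F) *ᵥ _) = _ at this
    rwa [glCongr_mulVec, glCongr_mulVec, hermForm_comp, hermForm_comp] at this
  · obtain ⟨u, rfl⟩ : ∃ w, φ ∘ w = u := ⟨φ.symm ∘ u, by ext; simp⟩
    obtain ⟨v, rfl⟩ : ∃ w, φ ∘ w = v := ⟨φ.symm ∘ v, by ext; simp⟩
    change hermForm n F q ((glCongr (Fin n) φ g : Matrix (Fin n) (Fin n) F) *ᵥ _)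
      ((glCongr (Fin n) φ g : Matrix (Fin n) (Fin n) F) *ᵥ _) = _
    rw [glCongr_mulVec, glCongr_mulVec, hermForm_comp, hermForm_comp]
    exact congrArg φ (h u v)

theorem fdS_suG {K : Type*} [Field K] (φ : K ≃+* F) : fdS φ (suG n F q) = suG n K q := by
  ext g
  rw [Subgroup.mem_inf, ← fdS_GU φ, mem_fdS, mem_fdS, Subgroup.mem_inf, mem_specialLinear,
    mem_specialLinear, coe_glCongr]
  refine and_congr_right fun _ => ?_
  rw [← map_eq_one_iff φ φ.injective]
  exact Eq.congr_left (φ.toRingHom.map_det _).symm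

theorem isMaximalIn_fdS {K : Type*} [Field K] (φ : K ≃+* F) {H : Subgroup (GL (Fin n) F)}
    (hH : IsMaximalIn (suG n F q) H) : IsMaximalIn (suG n K q) (fdS φ H) := by
  rw [← fdS_suG φ]
  exact isMaximalIn_comap _ hH

/-! ### Orthonormal frames -/

/-- The lines spanned by the columns of `T`. -/
def frame (T : GL (Fin n) F) (i : Fin n) : Submodule F (Fin n → F) :=
  Submodule.span F {(T : Matrix (Fin n) (Fin n) F) *ᵥ Pi.single i 1}

theorem isBlocks_frame (T : GL (Fin n) F) :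
    IsBlocks (frame T) (Equiv.uniqueProd (Fin n) (Fin 1)).symm T := by
  intro j v
  have key : ∀ x : Fin 1 → F, trV (Equiv.uniqueProd (Fin n) (Fin 1)).symm T
      (tens x (Pi.single j 1)) = x 0 • (T : Matrix (Fin n) (Fin n) F) *ᵥ Pi.single j 1 := by
    intro x
    rw [trV, ← Matrix.mulVec_smul]
    rfl
  rw [frame, Submodule.mem_span_singleton]
  exact ⟨fun ⟨a, h⟩ => ⟨fun _ => a, by rw [key, h]⟩, fun ⟨x, h⟩ => ⟨x 0, by rw [h, key]⟩⟩

theorem isMDecomposition_frame (hn : 2 ≤ n) (T : GL (Fin n) F) : IsMDecomposition 1 (frame T) :=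
  (isBlocks_frame T).isMDecomposition hn

/-- Monomial matrices. -/
def Mono (g : Matrix (Fin n) (Fin n) F) : Prop :=
  ∃ (π : Equiv.Perm (Fin n)) (c : Fin n → F), (∀ x j, (g *ᵥ x) (π j) = c j * x j) ∧
    g.det = ((Equiv.Perm.sign π : ℤ) : F) * ∏ j, c j

theorem mono_of_mem_frame {T g : GL (Fin n) F}
    (hg : T * g * T⁻¹ ∈ decompositionStabilizer (frame T)) : Mono (g : Matrix (Fin n) (Fin n) F) := by
  obtain ⟨π, gs, h⟩ := (isBlocks_frame T).exists_bmGL hg
  refine ⟨π, fun j => (gs j : Matrix (Fin 1) (Fin 1) F).det, fun x j => ?_, ?_⟩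
  · have h1 := trGL_mulVec (Equiv.uniqueProd (Fin n) (Fin 1)).symm T (bmGL π gs) (fun p => x p.2)
    rw [← h, trV, trV, ← cj_coe, cj_mulVec] at h1
    have h2 := congrFun ((Matrix.mulVec_injective_of_isUnit T.isUnit) h1) (π j)
    refine h2.trans ?_
    change ((bmGL π gs : Matrix (Fin 1 × Fin n) (Fin 1 × Fin n) F) *ᵥ _) (0, π j) = _
    rw [coe_bmGL, bm_mulVec]
    simp [Matrix.mulVec, dotProduct]
  · have := congrArg (fun x : GL (Fin n) F => (x : Matrix (Fin n) (Fin n) F).det) h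
    simp only [← cj_coe, cj_apply, Matrix.det_units_conj] at this
    simpa [coe_trGL, det_tr, coe_bmGL, det_bm] using this

theorem mem_frame_of_mono (hn : 2 ≤ n) {T g : GL (Fin n) F}
    (hg : Mono (g : Matrix (Fin n) (Fin n) F)) :
    T * g * T⁻¹ ∈ decompositionStabilizer (frame T) := by
  obtain ⟨π, c, h, -⟩ := hg
  refine mem_decompositionStabilizer_of_le (isMDecomposition_frame hn T) fun i => ⟨π i, fun v hv => ?_⟩
  obtain ⟨a, rfl⟩ := Submodule.mem_span_singleton.1 hv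
  rw [Matrix.mulVec_smul, ← cj_coe, cj_mulVec]
  refine Submodule.smul_mem _ _ (Submodule.mem_span_singleton.2 ⟨c i, ?_⟩)
  rw [← Matrix.mulVec_smul]
  congr 1
  ext k
  obtain ⟨k, rfl⟩ := π.surjective k
  rw [h]
  by_cases hk : k = i <;> simp [hk]

variable [hU : UF F q]

theorem frame_nd (hn : 2 ≤ n) {T : GL (Fin n) F} (hT : T ∈ GU n F q) :
    IsNondegenerateMDecomposition 𝐡 1 (frame T) := by
  have key : ∀ i j (a b : F), 𝐡 (a • (T : Matrix (Fin n) (Fin n) F) *ᵥ Pi.single i 1)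
      (b • (T : Matrix (Fin n) (Fin n) F) *ᵥ Pi.single j 1) = a * σ b * if j = i then 1 else 0 := by
    intro i j a b
    rw [herm_smul_left, herm_smul_right, mem_GU_iff.1 hT, herm_single_single, mul_assoc]
  refine ⟨isMDecomposition_frame hn T, fun i w hw hw0 => ?_, fun i j hij u hu v hv => ?_⟩
  · obtain ⟨a, rfl⟩ := Submodule.mem_span_singleton.1 hw
    have ha : a ≠ 0 := by rintro rfl; simp at hw0
    have : 𝐡 (a • (T : Matrix (Fin n) (Fin n) F) *ᵥ Pi.single i 1)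
        (a • (T : Matrix (Fin n) (Fin n) F) *ᵥ Pi.single i 1) ≠ 0 := by rw [key]; simp [ha]
    exact ⟨⟨_, hw, this⟩, _, hw, this⟩
  · obtain ⟨a, rfl⟩ := Submodule.mem_span_singleton.1 hu
    obtain ⟨b, rfl⟩ := Submodule.mem_span_singleton.1 hv
    rw [key, if_neg hij.symm, mul_zero]

theorem exists_orthonormal_on {W : Submodule F (Fin n → F)} (hW : IsNondegenerateOn 𝐡 W) {m : ℕ}
    (hm : Module.finrank F W = m) :
    ∃ b : Module.Basis (Fin m) F W, ∀ i j, 𝐡 (b i) (b j) = if i = j then 1 else 0 := by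
  have := hU.finite
  have hf := Max.isUnitaryForm_hermForm (F := F) n q
  subst hm
  obtain ⟨b, hb⟩ := exists_orthonormal_basis
    (fun h => hf.ne_refl (RingEquiv.ext fun a => RingHom.congr_fun h a)) hf.involutive
    (B := (Max.sesqOf hf).domRestrict₁₂ W W) ⟨fun x y => (hf.herm _ _).symm⟩ (fun x hx => by
      by_contra h0
      obtain ⟨y, hy, h⟩ := (hW x x.2 fun h => h0 (Subtype.ext h)).1
      exact h (hx ⟨y, hy⟩))
  exact ⟨b, fun i j => (hb j i).trans (by simp only [eq_comm])⟩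

theorem mem_GU_of_cols {T : GL (Fin n) F}
    (h : ∀ i j, 𝐡 ((T : Matrix (Fin n) (Fin n) F) *ᵥ Pi.single i 1)
      ((T : Matrix (Fin n) (Fin n) F) *ᵥ Pi.single j 1) = if i = j then 1 else 0) : T ∈ GU n F q := by
  refine pres_iff.2 (Matrix.ext fun i j => ?_)
  rw [Matrix.one_apply, ← h i j, herm_eq, Matrix.mul_apply]
  simp

theorem exists_orth_blocks {t m : ℕ} {D : Fin t → Submodule F (Fin n → F)}
    (hD : IsNondegenerateMDecomposition 𝐡 m D) :
    ∃ (e : Fin n ≃ Fin m × Fin t) (T : GL (Fin n) F), T ∈ GU n F q ∧ IsBlocks D e T := by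
  choose b hb using fun j => exists_orthonormal_on (hD.nondegenerate j) (hD.decomp.finrank_eq j)
  obtain ⟨e, T, h1, h2⟩ := IsMDecomposition.exists_blocks_of_basis hD.decomp b
  refine ⟨e, T, mem_GU_of_cols fun i j => ?_, h1⟩
  have h3 : ∀ a i, (T : Matrix (Fin n) (Fin n) F) *ᵥ Pi.single (e.symm (a, i)) 1 = b i a := by
    intro a i
    rw [← h2, trV]
    congr 1
    ext k
    simp [Pi.single_apply, Equiv.eq_symm_apply]
  obtain ⟨⟨a, i⟩, rfl⟩ := e.symm.surjective i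
  obtain ⟨⟨c, j⟩, rfl⟩ := e.symm.surjective j
  simp only [h3, EmbeddingLike.apply_eq_iff_eq, Prod.mk.injEq]
  by_cases hij : i = j
  · subst hij; simp [hb]
  · rw [hD.orthogonal i j hij _ (Subtype.mem _) _ (Subtype.mem _), if_neg fun h => hij h.2]

theorem le_frame (hn : 2 ≤ n) {t m : ℕ} {D : Fin t → Submodule F (Fin n → F)}
    (hD : IsNondegenerateMDecomposition 𝐡 m D) (hm : m = 1 ∨ (m = 2 ∧ q = 2)) :
    ∃ T ∈ GU n F q, decompositionStabilizer D ⊓ GU n F q ≤ decompositionStabilizer (frame T) := by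
  obtain ⟨e, T, hT, hB⟩ := exists_orth_blocks hD
  have h1 : ∀ a j (c : F), trV e T (tens (Pi.single a c) (Pi.single j 1)) =
      c • (T : Matrix (Fin n) (Fin n) F) *ᵥ Pi.single (e.symm (a, j)) 1 := fun a j c => by
    rw [trV, ← Matrix.mulVec_smul]
    congr 1
    ext k
    obtain ⟨⟨b, i⟩, rfl⟩ := e.symm.surjective k
    simp only [Function.comp_apply, Equiv.apply_symm_apply, tens, Pi.single_apply, Pi.smul_apply,
      EmbeddingLike.apply_eq_iff_eq, Prod.mk.injEq]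
    split_ifs <;> simp_all
  have h2 : ∀ j, ∀ v ∈ D j, 𝐡 v v = 1 → ∃ i, v ∈ frame T i := by
    intro j v hv h
    obtain ⟨x, rfl⟩ := (hB j v).1 hv
    obtain ⟨a, ha⟩ : ∃ a, x = Pi.single a (x a) := by
      rcases hm with rfl | ⟨rfl, rfl⟩
      · exact ⟨0, by ext i; simp [Subsingleton.elim i 0]⟩
      · rw [trV, mem_GU_iff.1 hT, herm_eq] at h
        replace h := (Equiv.sum_comp e
          (fun p => tens x (Pi.single j 1) p * conj F 2 (tens x (Pi.single j 1) p))).symm.trans h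
        rw [Fintype.sum_prod_type] at h
        simp only [tens, Pi.single_apply, mul_ite, mul_one, mul_zero, apply_ite (conj F 2), map_zero,
          ite_mul, zero_mul, Finset.sum_ite_eq', Finset.mem_univ, if_true, Fin.sum_univ_two] at h
        have := hU.finite
        have := Fintype.ofFinite F
        have hF : Fintype.card F = 2 ^ 2 := by rw [← hU.card_eq, Nat.card_eq_fintype_card]
        by_cases h0 : x 0 = 0
        · exact ⟨1, by ext i; fin_cases i <;> simp [h0]⟩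
        by_cases h1 : x 1 = 0
        · exact ⟨0, by ext i; fin_cases i <;> simp [h1]⟩
        have h3 : ∀ c : F, c ≠ 0 → c * conj F 2 c = 1 := fun c hc => by
          rw [mul_conj_eq_pow, ← FiniteField.pow_card_sub_one_eq_one c hc, hF]; rfl
        rw [h3 _ h0, h3 _ h1] at h
        simp at h
    exact ⟨_, by rw [ha, h1]; exact Submodule.smul_mem _ _ (Submodule.mem_span_singleton_self _)⟩
  refine ⟨T, hT, fun g ⟨⟨π, hπ⟩, hg⟩ =>
    mem_decompositionStabilizer_of_le (isMDecomposition_frame hn T) fun i => ?_⟩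
  have h3 : (T : Matrix (Fin n) (Fin n) F) *ᵥ Pi.single i 1 ∈ D (e i).2 :=
    (hB _ _).2 ⟨Pi.single (e i).1 1, by rw [h1]; simp⟩
  obtain ⟨j, hj⟩ := h2 (π (e i).2) ((g : Matrix (Fin n) (Fin n) F) *ᵥ _)
    (by rw [← hπ]; exact ⟨_, h3, Matrix.toLin'_apply _ _⟩) (by rw [mem_GU_iff.1 hg, mem_GU_iff.1 hT, herm_single_single, if_pos rfl])
  refine ⟨j, fun v hv => ?_⟩
  obtain ⟨a, rfl⟩ := Submodule.mem_span_singleton.1 hv
  rw [Matrix.mulVec_smul]
  exact Submodule.smul_mem _ _ hj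

theorem eq_frame (hn : 3 ≤ n) {H : Subgroup (GL (Fin n) F)} (hH : IsMaximalIn (suG n F q) H)
    {t m : ℕ} {D : Fin t → Submodule F (Fin n → F)} (hD : IsNondegenerateMDecomposition 𝐡 m D)
    (h : H = decompositionStabilizer D ⊓ suG n F q) (hm : m = 1 ∨ (m = 2 ∧ q = 2)) :
    ∃ T ∈ GU n F q, H = decompositionStabilizer (frame T) ⊓ suG n F q := by
  obtain ⟨T, hT, hle⟩ := le_frame (by omega) hD hm
  exact ⟨T, hT, eq_inf_of_maximal hH ((h ▸ inf_le_inf_left _ inf_le_left :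
    H ≤ decompositionStabilizer D ⊓ GU n F q).trans hle) (su_not_le_nd hn (frame_nd (by omega) hT))⟩

theorem su_planes_case (hn : 3 ≤ n) {H : Subgroup (GL (Fin n) F)} (hH : IsMaximalIn (suG n F q) H)
    {t : ℕ} {D : Fin t → Submodule F (Fin n → F)} (hD : IsNondegenerateMDecomposition 𝐡 2 D)
    (h : H = decompositionStabilizer D ⊓ suG n F q) : 3 ≤ q ∨
      ∃ D : Fin n → Submodule F (Fin n → F), IsNondegenerateMDecomposition 𝐡 1 D ∧
        H = decompositionStabilizer D ⊓ suG n F q := by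
  refine (two_le_q F q).eq_or_lt.symm.imp id fun hq => ?_
  obtain ⟨T, hT, h⟩ := eq_frame hn hH hD h (Or.inr ⟨rfl, hq.symm⟩)
  exact ⟨_, frame_nd (by omega) hT, h⟩

/-- A maximal frame stabiliser, over a model of the field. -/
theorem exists_mono_max (hn : 3 ≤ n) {H : Subgroup (GL (Fin n) F)} (hH : IsMaximalIn (suG n F q) H)
    {t m : ℕ} {D : Fin t → Submodule F (Fin n → F)} (hD : IsNondegenerateMDecomposition 𝐡 m D)
    (h : H = decompositionStabilizer D ⊓ suG n F q) (hm : m = 1 ∨ (m = 2 ∧ q = 2))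
    {K : Type*} [Field K] (φ : K ≃+* F) : ∃ H' : Subgroup (GL (Fin n) K),
      IsMaximalIn (suG n K q) H' ∧ ∀ g ∈ H', Mono (g : Matrix (Fin n) (Fin n) K) := by
  obtain ⟨T, hT, h⟩ := eq_frame hn hH hD h hm
  refine ⟨_, isMaximalIn_fdS φ (isMaximalIn_cjBy hT hH), fun g hg => ?_⟩
  rw [mem_fdS, mem_cjBy, h] at hg
  obtain ⟨π, c, h1, h2⟩ := mono_of_mem_frame hg.1
  refine ⟨π, φ.symm ∘ c, fun x j => φ.injective ?_, φ.injective ?_⟩
  · simpa [glCongr_mulVec] using h1 (φ ∘ x) j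
  · rw [coe_glCongr] at h2
    refine (φ.toRingHom.map_det _).trans (h2.trans ?_)
    simp

omit hU in
theorem Mono.norm [UF F q] {g : GL (Fin n) F} (hg : g ∈ GU n F q) {π : Equiv.Perm (Fin n)}
    {c : Fin n → F} (h : ∀ x j, ((g : Matrix (Fin n) (Fin n) F) *ᵥ x) (π j) = c j * x j) (j : Fin n) :
    c j * σ (c j) = 1 := by
  have h1 := mem_GU_iff.1 hg (Pi.single j 1) (Pi.single j 1)
  rw [herm_single_single, if_pos rfl, herm_eq, ← Equiv.sum_comp π, Finset.sum_eq_single j] at h1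
  · simpa [h] using h1
  · intro k _ hk; simp [h, hk]
  · simp

end Cfsg.Agent.Class.Asch
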